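import Cfsg.Agent.Lib.Perm.FixityFour.Embedded.Small

/-!
The translates of the four-set are disjoint: an element of order three on the pairings normalising
`S` fixes only the central involution of the kernel, so every involution outside the kernel
centralises a four-group of it.
-/

set_option autoImplicit false
set_option linter.style.haveILetI false

namespace CfsgLib.Perm.FixityFour

open MulAction Subgroup
open scoped Pointwise

/-- An invariant set of a 3-element with exactly two fixed points under conjugation. -/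
theorem card_mod_three {G : Type*} [Group G] [Finite G] {θ z : G} {k : ℕ} (hθ : θ ^ 3 ^ k = 1)
    (hθz : θ * z = z * θ) (hz1 : z ≠ 1) (Q : Set G)
    (hQ : ∀ g ∈ zpowers θ, ∀ x ∈ Q, g * x * g⁻¹ ∈ Q) (h1 : (1 : G) ∈ Q) (hz : z ∈ Q)
    (hfix : ∀ x ∈ Q, θ * x = x * θ → x = 1 ∨ x = z) : Q.ncard % 3 = 2 := by
  haveI : Fact (Nat.Prime 3) := ⟨Nat.prime_three⟩
  letI : MulAction (zpowers θ) Q :=
    { smul := fun t x => ⟨(t : G) * x * (t : G)⁻¹, hQ t t.2 x x.2⟩
      one_smul := fun x => Subtype.ext (show (1 : G) * (x : G) * (1 : G)⁻¹ = x by group)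
      mul_smul := fun t t' x => Subtype.ext
        (show ((t : G) * t') * (x : G) * ((t : G) * t')⁻¹ = t * (t' * x * (t' : G)⁻¹) * (t : G)⁻¹ by
          group) }
  have h3 : IsPGroup 3 (zpowers θ) :=
    IsPGroup.of_card_dvd_pow (n := k) ((Nat.card_zpowers θ).symm ▸ orderOf_dvd_of_pow_eq_one hθ)
  have hmod := h3.card_modEq_card_fixedPoints Q
  have heq : MulAction.fixedPoints (zpowers θ) Q = {⟨1, h1⟩, ⟨z, hz⟩} := by
    ext x
    constructor
    · intro hx
      have := congrArg Subtype.val (hx ⟨θ, mem_zpowers θ⟩)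
      change θ * (x : G) * θ⁻¹ = x at this
      rcases hfix x x.2 (mul_inv_eq_iff_eq_mul.mp this) with e | e
      · exact Or.inl (Subtype.ext e)
      · exact Or.inr (Subtype.ext e)
    · rintro (rfl | rfl) ⟨t, ht⟩
      · exact Subtype.ext (show t * 1 * t⁻¹ = 1 by group)
      · obtain ⟨i, rfl⟩ := mem_zpowers_iff.mp ht
        exact Subtype.ext (show θ ^ i * z * (θ ^ i)⁻¹ = z by
          rw [((show Commute θ z from hθz).zpow_left i).eq, mul_inv_cancel_right])
  have h2 : Nat.card (MulAction.fixedPoints (zpowers θ) Q) = 2 := by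
    rw [Nat.card_coe_set_eq, heq, Set.ncard_pair fun e => hz1 (congrArg Subtype.val e).symm]
  rw [h2, Nat.card_coe_set_eq] at hmod
  exact hmod

/-- A subgroup of index at most two. -/
theorem card_le_two_mul {G : Type*} [Group G] [Finite G] {P C : Subgroup G} (hCP : C ≤ P)
    (h : ∀ a ∈ P, a ∉ C → ∀ b ∈ P, b ∉ C → a⁻¹ * b ∈ C) : Nat.card P ≤ 2 * Nat.card C := by
  classical
  rw [← LocalEvenB.SelfCentralEight.Sections.relIndex_mul_card hCP]
  refine Nat.mul_le_mul_right _ ?_
  let q : P ⧸ C.subgroupOf P → Bool := fun c => decide (c = ((1 : P) : P ⧸ C.subgroupOf P))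
  have hq : Function.Injective q := by
    intro c d hcd
    induction c using QuotientGroup.induction_on with
    | H a =>
      induction d using QuotientGroup.induction_on with
      | H b =>
        simp only [q, decide_eq_decide, QuotientGroup.eq, mul_one, inv_mem_iff] at hcd
        rw [QuotientGroup.eq]
        by_cases ha : a ∈ C.subgroupOf P
        · exact mul_mem (inv_mem ha) (hcd.mp ha)
        · exact mem_subgroupOf.mpr
            (h _ a.2 (fun h' => ha (mem_subgroupOf.mpr h')) _ b.2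
              fun h' => ha (hcd.mpr (mem_subgroupOf.mpr h')))
  exact (Nat.card_le_card_of_injective q hq).trans (by simp)

variable {G Ω : Type*} [Group G] [MulAction G Ω]

namespace EmbCtx

variable {S : Sylow 2 G} {F : Set Ω} [Finite G] [Finite Ω]

variable [IsSimpleGroup G] [FaithfulSMul G Ω] (hna : ¬ IsMulCommutative G)

include hna

/-- An element of order three on the pairings that normalises `S`. -/
theorem exists_theta (E : EmbCtx S F) {c : G} (hc : c ∈ stabilizer G F)
    (hcc : c * c ∉ fixingSubgroup G F) :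
    ∃ (θ : G) (k : ℕ), θ ∈ stabilizer G F ∧ θ * θ ∉ fixingSubgroup G F ∧ θ ^ 3 ^ k = 1 ∧
      θ ∈ normalizer ((S : Subgroup G) : Set G) := by
  haveI : Fact (Nat.Prime 2) := ⟨Nat.prime_two⟩
  obtain ⟨l, hl, -⟩ := E.exists_lambda hna
  have hle : (S.subtype E.mod.le : Subgroup (stabilizer G F)) ≤ l.ker := fun x hx =>
    MonoidHom.mem_ker.mpr ((hl x).mpr (E.sq_mem hna hx))
  have htop := Sylow.normalizer_sup_eq_top' (S.subtype E.mod.le) hle
  obtain ⟨n, hn, y, hy, hny⟩ := Subgroup.mem_sup_of_normal_right.mp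
    (htop ▸ mem_top (⟨c, hc⟩ : stabilizer G F))
  have hln : l n ≠ 1 := fun h => hcc ((hl ⟨c, hc⟩).mp (by
    rw [← hny, map_mul, h, MonoidHom.mem_ker.mp hy, one_mul]))
  obtain ⟨k, m, hm, hord⟩ :=
    Nat.exists_eq_pow_mul_and_not_dvd (orderOf_pos n).ne' 3 (by norm_num)
  refine ⟨((n ^ m : stabilizer G F) : G), k, (n ^ m).2, fun h => ?_, ?_, ?_⟩
  · have h1 := (hl (n ^ m)).mpr h
    rw [map_pow] at h1
    have h3 : orderOf (l n) ∣ 3 := by
      have := orderOf_dvd_natCard (l n)
      rwa [Nat.card_congr Multiplicative.toAdd, Nat.card_zmod] at this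
    rcases (Nat.dvd_prime Nat.prime_three).mp h3 with e | e
    · exact hln (orderOf_eq_one_iff.mp e)
    · exact hm (e ▸ orderOf_dvd_of_pow_eq_one h1)
  · have : (n ^ m) ^ 3 ^ k = 1 := by rw [← pow_mul, mul_comm, ← hord, pow_orderOf_eq_one]
    exact congrArg Subtype.val this
  · have hn' := pow_mem hn m
    refine mem_normalizer_iff.mpr fun s => ⟨fun hs => ?_, fun hs => ?_⟩
    · exact (mem_normalizer_iff.mp hn' ⟨s, E.mod.le hs⟩).mp hs
    · have hsM : s ∈ stabilizer G F := by
        have := Subgroup.mul_mem _ (Subgroup.mul_mem _ (Subgroup.inv_mem _ (n ^ m).2) (E.mod.le hs))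
          (n ^ m).2
        simpa [mul_assoc] using this
      exact (mem_normalizer_iff.mp hn' ⟨s, hsM⟩).mpr hs

/-- Such an element centralises no more than two elements of the kernel part. -/
theorem centralised_by_theta (E : EmbCtx S F)
    (hdis : ∀ g ∉ stabilizer G F, ∀ a ∈ F, a ∉ g • F) {θ : G} {k : ℕ} (hθ : θ ∈ stabilizer G F)
    (hθθ : θ * θ ∉ fixingSubgroup G F) (hθ3 : θ ^ 3 ^ k = 1) {z w : G} (hz : z ∈ kerPart S F)
    (hz2 : orderOf z = 2) (hθz : θ * z = z * θ) (hw : w ∈ kerPart S F) (hθw : θ * w = w * θ) :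
    w = 1 ∨ w = z := by
  by_contra! hne
  obtain ⟨l, hl, hl2⟩ := E.exists_lambda hna
  have h1 : l ⟨θ, hθ⟩ = 1 := by
    refine hom_apply_eq_one hna _ l ⟨θ, hθ⟩ fun g hg r h => ?_
    by_contra hlx
    change g⁻¹ * θ ^ r * g ∈ stabilizer G F at h
    obtain ⟨b', hb'F, hb', -⟩ := hl2 _ hlx
    change (g⁻¹ * θ ^ r * g) • b' = b' at hb'
    set b := g • b' with hb
    have hbfix : θ ^ r • b = b := by
      rw [mul_smul, mul_smul, inv_smul_eq_iff] at hb'
      exact hb'
    have hbF : b ∉ F := fun hbF => hdis g hg b hbF (Set.smul_mem_smul_set hb'F)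
    obtain ⟨a, haF, ha⟩ : ∃ a ∈ F, θ ^ r • a = a := by
      by_cases hr : l (⟨θ, hθ⟩ ^ r) = 1
      · obtain ⟨a, haF⟩ := E.nonempty
        refine ⟨a, haF, mem_kernel_iff.mp ?_ a haF⟩
        have hsq : θ ^ r * θ ^ r ∈ fixingSubgroup G F := (hl _).mp hr
        exact zpowers_le.mpr hsq (mem_zpowers_sq (n := 3 ^ k) (Odd.pow (by decide))
          (by rw [← pow_mul, mul_comm, pow_mul, hθ3, one_pow]))
      · obtain ⟨a, haF, ha, -⟩ := hl2 _ hr
        exact ⟨a, haF, ha⟩
    set Q : Set G := {1, z, w, z * w} with hQ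
    have hQK : ∀ q ∈ Q, q ∈ fixingSubgroup G F ∧ Commute (θ ^ r) q := by
      have c1 : Commute (θ ^ r) z := (show Commute θ z from hθz).pow_left r
      have c2 : Commute (θ ^ r) w := (show Commute θ w from hθw).pow_left r
      rintro q (rfl | rfl | rfl | rfl)
      exacts [⟨one_mem _, Commute.one_right _⟩, ⟨hz.2, c1⟩, ⟨hw.2, c2⟩,
        ⟨mul_mem hz.2 hw.2, c1.mul_right c2⟩]
    have hQ4 : Q.ncard = 4 := by
      have n1 : z * w ≠ 1 := fun e => hne.2 <| (eq_inv_of_mul_eq_one_right e).trans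
        (inv_eq_of_mul_eq_one_right (pow_two_eq_one hz2))
      rw [hQ, Set.ncard_insert_of_notMem
          (by simp [(ne_one_of_order_two hz2).symm, hne.1.symm, n1.symm]) (Set.toFinite _),
        Set.ncard_eq_three.mpr ⟨z, w, z * w, hne.2.symm, fun e => hne.1 (left_eq_mul.mp e),
          fun e => ne_one_of_order_two hz2 (right_eq_mul.mp e), rfl⟩]
    have hinj : Set.InjOn (fun q => q • b) Q := by
      intro q hq q' hq' e
      have := eq_one_of_extra E.mod.four.fix E.mod.card hbF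
        (show (q⁻¹ * q') • b = b by rw [mul_smul, inv_smul_eq_iff]; exact e.symm)
        (mem_kernel_iff.mp (mul_mem (inv_mem (hQK q hq).1) (hQK q' hq').1))
      exact inv_mul_eq_one.mp this
    have hnot : a ∉ (fun q => q • b) '' Q := by
      rintro ⟨q, hq, e⟩
      exact compl_invariant (kernel_le_setStab F (hQK q hq).1) hbF (show (fun q => q • b) q ∈ F from e.symm ▸ haF)
    have h5 : (insert a ((fun q => q • b) '' Q)).ncard = 5 := by
      rw [Set.ncard_insert_of_notMem hnot (Set.toFinite _), hinj.ncard_image, hQ4]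
    have hone : θ ^ r = 1 := eq_one_of_five E.mod.four.fix (F := insert a ((fun q => q • b) '' Q))
      (by omega) <| by
        rintro x (rfl | ⟨q, hq, rfl⟩)
        · exact ha
        · rw [smul_smul, (hQK q hq).2.eq, ← smul_smul, hbfix]
    refine hlx ?_
    rw [show (⟨g⁻¹ * θ ^ r * g, h⟩ : stabilizer G F) = 1 from Subtype.ext (by simp [hone]), map_one]
  exact hθθ ((hl _).mp h1)

/-- A four-group of the kernel normal in `S`, with only one involution of the kernel central in
`S`. -/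
theorem done_of_unique_central (E : EmbCtx S F) {c : G} (hc : c ∈ stabilizer G F)
    (hcc : c * c ∉ fixingSubgroup G F) (hdis : ∀ g ∉ stabilizer G F, ∀ a ∈ F, a ∉ g • F)
    {z : G} (hz : z ∈ kerPart S F) (hz2 : orderOf z = 2)
    (hzc : ∀ s ∈ (S : Subgroup G), s * z = z * s)
    (huniq : ∀ x ∈ kerPart S F, orderOf x = 2 → (∀ s ∈ (S : Subgroup G), s * x = x * s) → x = z)
    {U : Subgroup G} (hU : U ≤ kerPart S F) (hU4 : Nat.card U = 4) (hU2 : ∀ u ∈ U, u * u = 1)
    (hUn : ∀ s ∈ (S : Subgroup G), ∀ u ∈ U, s * u * s⁻¹ ∈ U) : Done G := by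
  classical
  haveI : Fact (Nat.Prime 2) := ⟨Nat.prime_two⟩
  obtain ⟨θ, k, hθM, hθθ, hθ3, hθS⟩ := E.exists_theta hna hc hcc
  have hzz : z * z = 1 := pow_two_eq_one hz2
  have hz1 := ne_one_of_order_two hz2
  -- the central involution lies in `U` and is fixed by `θ`
  have hzU : z ∈ U := by
    haveI hUnor : (U.subgroupOf (S : Subgroup G)).Normal := ⟨fun _ hu s => hUn s s.2 _ hu⟩
    have hne : U.subgroupOf (S : Subgroup G) ≠ ⊥ := by
      intro h
      obtain ⟨u, hu, hu2, -⟩ := exists_pair hU4.ge hU2 1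
      have h1 : (⟨u, (hU hu).1⟩ : (S : Subgroup G)) ∈ U.subgroupOf (S : Subgroup G) := hu
      rw [h, Subgroup.mem_bot] at h1
      exact ne_one_of_order_two hu2 (congrArg Subtype.val h1)
    obtain ⟨x, hx, hx2, hxc⟩ := TwoGroups.Classify.exists_central_involution S.isPGroup' _ hne
    rw [← huniq x (hU hx) (by rwa [Subgroup.orderOf_coe]) fun s hs =>
      congrArg Subtype.val (Subgroup.mem_center_iff.mp hxc ⟨s, hs⟩)]
    exact hx
  have hθz : θ * z = z * θ := by
    refine mul_inv_eq_iff_eq_mul.mp (huniq (θ * z * θ⁻¹)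
      ⟨(mem_normalizer_iff.mp hθS z).mp hz.1, conj_mem_kernel hθM hz.2⟩
      (((MulAut.conj θ).orderOf_eq z).trans hz2) fun s hs => ?_)
    have hs' : θ⁻¹ * s * θ ∈ (S : Subgroup G) :=
      (mem_normalizer_iff.mp hθS _).mpr (by rwa [show θ * (θ⁻¹ * s * θ) * θ⁻¹ = s by group])
    calc s * (θ * z * θ⁻¹) = θ * ((θ⁻¹ * s * θ) * z) * θ⁻¹ := by group
      _ = θ * (z * (θ⁻¹ * s * θ)) * θ⁻¹ := by rw [hzc _ hs']
      _ = θ * z * θ⁻¹ * s := by group
  set Z := zpowers z with hZ
  have hZc : ∀ {x}, x ∈ Z → ∀ s ∈ (S : Subgroup G), s * x = x * s := fun hx s hs => by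
    rcases mem_zpowers_two hzz hx with rfl | rfl
    exacts [by rw [mul_one, one_mul], hzc s hs]
  let P : Subgroup G :=
    { carrier := {w | w ∈ kerPart S F ∧ w * w ∈ Z ∧
        ∀ s ∈ (S : Subgroup G), s * w * s⁻¹ * w⁻¹ ∈ Z}
      one_mem' := ⟨one_mem _, by rw [mul_one]; exact one_mem _,
        fun s _ => by rw [show s * 1 * s⁻¹ * 1⁻¹ = 1 by group]; exact one_mem _⟩
      mul_mem' := fun {a b} ha hb => by
        refine ⟨mul_mem ha.1 hb.1, ?_, fun s hs => ?_⟩
        · have hζ := ha.2.2 b hb.1.1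
          have e : a * b * (a * b) = (b * a * b⁻¹ * a⁻¹) * (a * a) * (b * b) := by
            have h1 := hZc hζ a ha.1.1
            calc a * b * (a * b) = (a * (b * a * b⁻¹ * a⁻¹)) * a * (b * b) := by group
              _ = ((b * a * b⁻¹ * a⁻¹) * a) * a * (b * b) := by rw [h1]
              _ = _ := by group
          rw [e]
          exact mul_mem (mul_mem hζ ha.2.1) hb.2.1
        · have h1 := hZc (hb.2.2 s hs) a ha.1.1
          have e : s * (a * b) * s⁻¹ * (a * b)⁻¹ =
              (s * a * s⁻¹ * a⁻¹) * (s * b * s⁻¹ * b⁻¹) := by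
            calc s * (a * b) * s⁻¹ * (a * b)⁻¹ =
                (s * a * s⁻¹ * a⁻¹) * (a * (s * b * s⁻¹ * b⁻¹)) * a⁻¹ := by group
              _ = _ := by rw [h1]; group
          rw [e]
          exact mul_mem (ha.2.2 s hs) (hb.2.2 s hs)
      inv_mem' := fun {a} ha => by
        refine ⟨inv_mem ha.1, by rw [← mul_inv_rev]; exact inv_mem ha.2.1, fun s hs => ?_⟩
        have hmem := inv_mem (ha.2.2 s hs)
        have h1 := hZc hmem a⁻¹ (inv_mem ha.1.1)
        have e : s * a⁻¹ * s⁻¹ * a⁻¹⁻¹ = (s * a * s⁻¹ * a⁻¹)⁻¹ := by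
          calc s * a⁻¹ * s⁻¹ * a⁻¹⁻¹ = (a⁻¹ * (s * a * s⁻¹ * a⁻¹)⁻¹) * a := by group
            _ = _ := by rw [h1]; group
        rw [e]
        exact hmem }
  have hPS : P ≤ (S : Subgroup G) := fun w hw => hw.1.1
  have hUP : U ≤ P := by
    intro u hu
    refine ⟨hU hu, by rw [hU2 u hu]; exact one_mem _, fun s hs => ?_⟩
    by_cases hu1 : u ∈ Z
    · rw [hZc hu1 s hs, mul_inv_cancel_right, mul_inv_cancel]; exact one_mem _
    have hu0 : u ≠ 1 := fun e => hu1 (e ▸ one_mem _)
    have huz : u ≠ z := fun e => hu1 (e ▸ mem_zpowers z)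
    rcases four_elements hU4 hzU hu hz1 hu0 (Ne.symm huz) hzz (hUn s hs u hu) with e | e | e | e
    · exact absurd (conj_eq_one_iff.mp e) hu0
    · exact absurd (by
        calc u = s⁻¹ * (s * u * s⁻¹) * s := by group
          _ = z := by rw [e, mul_assoc, ← hzc s hs, inv_mul_cancel_left]) huz
    · rw [e, mul_inv_cancel]; exact one_mem _
    · rw [e, mul_inv_cancel_right]; exact mem_zpowers z
  -- invariance under `θ`
  have hinv : ∀ g ∈ zpowers θ, ∀ x ∈ P, g * x * g⁻¹ ∈ P := by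
    intro g hg x hx
    have hgM : g ∈ stabilizer G F := zpowers_le.mpr hθM hg
    have hgS : g ∈ normalizer ((S : Subgroup G) : Set G) := zpowers_le.mpr hθS hg
    obtain ⟨i, rfl⟩ := mem_zpowers_iff.mp hg
    have hgz : Commute (θ ^ i) z := (show Commute θ z from hθz).zpow_left i
    set g := θ ^ i
    have hgZ : ∀ y ∈ Z, g * y * g⁻¹ ∈ Z := fun y hy => by
      rcases mem_zpowers_two hzz hy with rfl | rfl
      · rw [mul_one, mul_inv_cancel]; exact one_mem _
      · rw [hgz.eq, mul_inv_cancel_right]; exact hy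
    refine ⟨⟨(mem_normalizer_iff.mp hgS x).mp hx.1.1, conj_mem_kernel hgM hx.1.2⟩, ?_, fun s hs => ?_⟩
    · rw [show g * x * g⁻¹ * (g * x * g⁻¹) = g * (x * x) * g⁻¹ by group]
      exact hgZ _ hx.2.1
    · have hs' : g⁻¹ * s * g ∈ (S : Subgroup G) :=
        (mem_normalizer_iff.mp hgS _).mpr (by rwa [show g * (g⁻¹ * s * g) * g⁻¹ = s by group])
      rw [show s * (g * x * g⁻¹) * s⁻¹ * (g * x * g⁻¹)⁻¹ =
        g * ((g⁻¹ * s * g) * x * (g⁻¹ * s * g)⁻¹ * x⁻¹) * g⁻¹ by group]
      exact hgZ _ (hx.2.2 _ hs')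
  have hfix : ∀ x ∈ P, θ * x = x * θ → x = 1 ∨ x = z := fun x hx h =>
    E.centralised_by_theta hna hdis hθM hθθ hθ3 hz hz2 hθz hx.1 h
  have hzP : z ∈ P := hUP hzU
  have hP3 : Nat.card P % 3 = 2 := by
    rw [← SetLike.coe_sort_coe, Nat.card_coe_set_eq]
    exact card_mod_three hθ3 hθz hz1 _ hinv (one_mem P) hzP hfix
  obtain ⟨j, hj⟩ := (S.isPGroup'.to_le hPS).exists_card_eq
  have hj2 : 4 ≤ 2 ^ j := hj ▸ hU4 ▸ Subgroup.card_le_of_le hUP
  rw [hj] at hP3
  have hcases : j = 3 ∨ 5 ≤ j := by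
    by_contra hno
    push Not at hno
    have : j ≤ 4 := by omega
    interval_cases j <;> simp_all
  have hel : j = 3 → ∀ x ∈ P, x * x = 1 := by
    rintro rfl
    set Inv : Set G := {x | x ∈ P ∧ x * x = 1} with hInv
    have h3 : Inv.ncard % 3 = 2 := card_mod_three hθ3 hθz hz1 Inv
      (fun g hg x hx => ⟨hinv g hg x hx.1, by
        calc g * x * g⁻¹ * (g * x * g⁻¹) = g * (x * x) * g⁻¹ := by group
          _ = 1 := by rw [hx.2]; group⟩)
      ⟨one_mem _, one_mul _⟩ ⟨hzP, hzz⟩ (fun x hx => hfix x hx.1)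
    have hge : 4 ≤ Inv.ncard := by
      rw [← hU4, ← SetLike.coe_sort_coe, Nat.card_coe_set_eq]
      exact Set.ncard_le_ncard (fun u hu => ⟨hUP hu, hU2 u hu⟩) (Set.toFinite _)
    have h2 : 2 ∣ Inv.ncard := by
      have := card_dvd_of_free Z Inv ?_ ?_
      · rwa [hZ, Nat.card_zpowers, hz2] at this
      · intro w hw x hx
        rcases mem_zpowers_two hzz hw with rfl | rfl
        · rwa [one_smul]
        · refine ⟨mul_mem hzP hx.1, ?_⟩
          calc w * x * (w * x) = w * (x * w) * x := by group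
            _ = (w * w) * (x * x) := by rw [hzc x (hPS hx.1)]; group
            _ = 1 := by rw [hzz, hx.2, one_mul]
      · intro w _ x _ h
        exact mul_eq_right.mp h
    have hle : Inv.ncard ≤ 8 := by
      have := Set.ncard_le_ncard (fun x (hx : x ∈ Inv) => hx.1) (Set.toFinite (P : Set G))
      rwa [← Nat.card_coe_set_eq (P : Set G), SetLike.coe_sort_coe, hj] at this
    have hEq : Inv = P := Set.eq_of_subset_of_ncard_le (fun x hx => hx.1)
      (by rw [← Nat.card_coe_set_eq (P : Set G), SetLike.coe_sort_coe, hj]; omega) (Set.toFinite _)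
    intro x hx
    have hx' : x ∈ Inv := by rw [hEq]; exact hx
    exact hx'.2
  -- half of `P` centralises a given element of `S`
  have hhalf : ∀ s ∈ (S : Subgroup G), ∀ Q ≤ P,
      Nat.card Q ≤ 2 * Nat.card ↥(Q ⊓ centralizer ({s} : Set G)) := by
    intro s hs Q hQ
    refine card_le_two_mul inf_le_left fun a ha haC b hb hbC => ?_
    have key : ∀ w ∈ Q, w ∉ Q ⊓ centralizer ({s} : Set G) → s * w * s⁻¹ = z * w := by
      intro w hw hwC
      rcases mem_zpowers_two hzz ((hQ hw).2.2 s hs) with e | e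
      · exact absurd ⟨hw, mem_centralizer_singleton_iff.mpr
          (mul_inv_eq_iff_eq_mul.mp (mul_inv_eq_one.mp e)).symm⟩ hwC
      · exact mul_inv_eq_iff_eq_mul.mp e
    refine ⟨Q.mul_mem (Q.inv_mem ha) hb, mem_centralizer_singleton_iff.mpr ?_⟩
    refine (mul_inv_eq_iff_eq_mul.mp ?_).symm
    calc s * (a⁻¹ * b) * s⁻¹ = (s * a * s⁻¹)⁻¹ * (s * b * s⁻¹) := by group
      _ = a⁻¹ * b := by rw [key a ha haC, key b hb hbC]; group
  refine E.done_of_pairs hna fun u hu _ _ => ?_
  set C := P ⊓ centralizer ({u} : Set G) with hC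
  have hC4 := hhalf u hu P le_rfl
  rw [hj, ← hC] at hC4
  rcases hcases with rfl | h5
  · have h2 : ∀ x ∈ C, x * x = 1 := fun x hx => hel rfl x hx.1
    obtain ⟨e₁, he₁, o₁, -⟩ := exists_pair (U := C) (by omega) h2 1
    obtain ⟨e₂, he₂, o₂, hne⟩ := exists_pair (U := C) (by omega) h2 e₁
    exact ⟨e₁, he₁.1.1, e₂, he₂.1.1, o₁, o₂, hne.symm, Rank.comm_of_sq h2 he₁ he₂,
      mem_centralizer_singleton_iff.mp he₁.2, mem_centralizer_singleton_iff.mp he₂.2⟩
  · by_cases hex : ∃ x ∈ C, orderOf x = 2 ∧ x ≠ z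
    · obtain ⟨x, hx, ox, hxz⟩ := hex
      exact ⟨z, hz, x, hx.1.1, hz2, ox, hxz.symm, (hzc x (hPS hx.1)).symm, (hzc u hu).symm,
        mem_centralizer_singleton_iff.mp hx.2⟩
    · exfalso
      push Not at hex
      have h32 : 32 ≤ 2 ^ j := le_trans (by norm_num) (Nat.pow_le_pow_right (by norm_num) h5)
      have hsq : ∀ x ∈ C, x ∉ Z → x * x = z := fun x hx hxZ => by
        rcases mem_zpowers_two hzz hx.1.2.1 with e | e
        · exact absurd (hex x hx (order_two e fun h => hxZ (h ▸ one_mem _)) ▸ mem_zpowers z) hxZ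
        · exact e
      have hnot : ∀ A B : Subgroup G, Nat.card A < Nat.card B → ∃ x ∈ B, x ∉ A := fun A B h =>
        SetLike.not_le_iff_exists.mp fun hle => absurd (Subgroup.card_le_of_le hle) (not_le.mpr h)
      obtain ⟨x, hx, hxZ⟩ := hnot Z C (by rw [hZ, Nat.card_zpowers, hz2]; omega)
      have hxx := hsq x hx hxZ
      have hC8 := hhalf x (hPS hx.1) C inf_le_left
      have hZx : Z ≤ zpowers x := zpowers_le.mpr (hxx ▸ mul_mem (mem_zpowers x) (mem_zpowers x))
      have hx4 : orderOf x ≤ 4 := orderOf_le_of_pow_eq_one (by norm_num)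
        (by rw [show x ^ 4 = (x * x) * (x * x) by simp only [pow_succ, pow_zero, one_mul, mul_assoc],
          hxx, hzz])
      obtain ⟨y, hy, hyx⟩ :=
        hnot (zpowers x) (C ⊓ centralizer ({x} : Set G)) (by rw [Nat.card_zpowers]; omega)
      have hyy := hsq y hy.1 fun h => hyx (hZx h)
      have hxy : x * y * (x * y) = 1 := by
        calc x * y * (x * y) = x * (y * x) * y := by group
          _ = (x * x) * (y * y) := by rw [mem_centralizer_singleton_iff.mp hy.2]; group
          _ = 1 := by rw [hxx, hyy, hzz]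
      refine hyx ?_
      by_cases hxy1 : x * y = 1
      · rw [eq_inv_of_mul_eq_one_right hxy1]; exact inv_mem (mem_zpowers x)
      · have := hex _ (mul_mem hx hy.1) (order_two hxy hxy1)
        rw [show y = x⁻¹ * z by rw [← this]; group]
        exact mul_mem (inv_mem (mem_zpowers x)) (hZx (mem_zpowers z))

/-- The translates are disjoint. -/
theorem done_of_disjoint (E : EmbCtx S F) {c : G} (hc : c ∈ stabilizer G F)
    (hcc : c * c ∉ fixingSubgroup G F) (hdis : ∀ g ∉ stabilizer G F, ∀ a ∈ F, a ∉ g • F) :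
    Done G := by
  obtain ⟨z, hz, hz2, hzc⟩ := E.exists_central
  by_cases huniq : ∀ x ∈ kerPart S F, orderOf x = 2 →
      (∀ s ∈ (S : Subgroup G), s * x = x * s) → x = z
  · by_cases hU : ∃ U ≤ kerPart S F, Nat.card U = 4 ∧ (∀ u ∈ U, u * u = 1) ∧
        ∀ s ∈ (S : Subgroup G), ∀ u ∈ U, s * u * s⁻¹ ∈ U
    · obtain ⟨U, hUW, h4, h2, hn⟩ := hU
      exact E.done_of_unique_central hna hc hcc hdis hz hz2 hzc huniq hUW h4 h2 hn
    · exact E.done_of_no_normal_four fun U h1 h4 h2 hn => hU ⟨U, h1, h4, h2, hn⟩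
  · push Not at huniq
    obtain ⟨x, hx, hx2, hxc, hxz⟩ := huniq
    exact E.done_of_central_pair hna hz hx hz2 hx2 (Ne.symm hxz) hzc hxc

end EmbCtx

end CfsgLib.Perm.FixityFour
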