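import Mathlib

/-!
Small group-theoretic lemmas: odd and even parts of an element, four-groups, characters of index two
and the value of a transfer at an element without fusion.
-/

set_option autoImplicit false
set_option linter.style.haveILetI false

namespace CfsgLib.Perm.FixityFour

open Subgroup
open scoped Pointwise

variable {G : Type*} [Group G]

/-- The two parts of an element of finite order. -/
theorem exists_parts [Finite G] (g : G) :
    ∃ k n : ℕ, Odd n ∧ (g ^ n) ^ 2 ^ k = 1 ∧ (g ^ 2 ^ k) ^ n = 1 := by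
  obtain ⟨k, n, hn, he⟩ := Nat.exists_eq_two_pow_mul_odd (orderOf_pos g).ne'
  refine ⟨k, n, hn, ?_, ?_⟩
  · rw [← pow_mul, mul_comm, ← he, pow_orderOf_eq_one]
  · rw [← pow_mul, ← he, pow_orderOf_eq_one]

/-- A map to a group of order two is trivial if it kills the elements of two-power order. -/
theorem units_hom_eq_one [Finite G] (ψ : G →* ℤˣ)
    (h2 : ∀ y : G, (∃ e : ℕ, y ^ 2 ^ e = 1) → ψ y = 1) (g : G) : ψ g = 1 := by
  obtain ⟨k, n, hn, h1, -⟩ := exists_parts g
  have := h2 (g ^ n) ⟨k, h1⟩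
  rwa [map_pow, Int.units_pow_eq_pow_mod_two, Nat.odd_iff.mp hn, pow_one] at this

theorem mem_zpowers_sq {x : G} {n : ℕ} (hn : Odd n) (hx : x ^ n = 1) : x ∈ zpowers (x * x) := by
  obtain ⟨k, rfl⟩ := hn
  refine mem_zpowers_iff.mpr ⟨((k + 1 : ℕ) : ℤ), ?_⟩
  rw [zpow_natCast, ← pow_two, ← pow_mul, show 2 * (k + 1) = (2 * k + 1) + 1 by ring, pow_succ, hx,
    one_mul]

/-- The only involution among the powers of an element of two-power order. -/
theorem pow_eq_half {y : G} {k : ℕ} (hy : orderOf y = 2 ^ k) {a : ℕ} (h2 : orderOf (y ^ a) = 2) :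
    y ^ a = y ^ 2 ^ (k - 1) := by
  have h1 : (y ^ a) ^ 2 = 1 := by rw [← h2, pow_orderOf_eq_one]
  rw [← pow_mul, ← orderOf_dvd_iff_pow_eq_one, hy] at h1
  have hne : ¬ 2 ^ k ∣ a := fun h => by
    rw [← hy, orderOf_dvd_iff_pow_eq_one] at h
    rw [h, orderOf_one] at h2
    omega
  rcases k with _ | k
  · exact absurd (one_dvd a) hne
  rw [pow_succ] at h1 hne
  obtain ⟨c, rfl⟩ := Nat.dvd_of_mul_dvd_mul_right two_pos h1
  obtain ⟨d, rfl | rfl⟩ := Nat.even_or_odd' c
  · exact absurd ⟨d, by ring⟩ hne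
  · rw [show 2 ^ k * (2 * d + 1) = 2 ^ (k + 1) * d + 2 ^ k by ring, pow_add, pow_mul, ← hy,
      pow_orderOf_eq_one, one_pow, one_mul, Nat.add_sub_cancel]

theorem mem_zpowers_two {u x : G} (hu : u * u = 1) (hx : x ∈ zpowers u) : x = 1 ∨ x = u := by
  obtain ⟨i, rfl⟩ := mem_zpowers_iff.mp hx
  obtain ⟨t, rfl | rfl⟩ := Int.even_or_odd' i
  · exact Or.inl (by rw [zpow_mul, zpow_two, hu, one_zpow])
  · exact Or.inr (by rw [zpow_add, zpow_mul, zpow_two, hu, one_zpow, one_mul, zpow_one])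

/-- The subgroup of two commuting involutions. -/
def fourGroup (a b : G) (ha : a * a = 1) (hb : b * b = 1) (hab : a * b = b * a) : Subgroup G where
  carrier := {x | x = 1 ∨ x = a ∨ x = b ∨ x = a * b}
  one_mem' := Or.inl rfl
  mul_mem' := fun {x y} hx hy => by
    have h1 : a * (a * b) = b := by rw [← mul_assoc, ha, one_mul]
    have h2 : b * (a * b) = a := by rw [hab, ← mul_assoc, hb, one_mul]
    have h3 : (a * b) * a = b := by rw [hab, mul_assoc, ha, mul_one]
    have h4 : (a * b) * b = a := by rw [mul_assoc, hb, mul_one]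
    have h5 : (a * b) * (a * b) = 1 := by rw [← mul_assoc, h3, hb]
    rcases hx with rfl | rfl | rfl | rfl <;> rcases hy with rfl | rfl | rfl | rfl <;>
      simp only [one_mul, mul_one, ha, hb, h1, h2, h3, h4, h5, Set.mem_ofPred_eq, ← hab, true_or,
        or_true]
  inv_mem' := fun {x} hx => by
    have h5 : (a * b) * (a * b) = 1 := by rw [mul_assoc, ← mul_assoc b, ← hab, mul_assoc a b, hb, mul_one, ha]
    rcases hx with rfl | rfl | rfl | rfl
    · exact Or.inl inv_one
    · exact Or.inr (Or.inl (inv_eq_of_mul_eq_one_right ha))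
    · exact Or.inr (Or.inr (Or.inl (inv_eq_of_mul_eq_one_right hb)))
    · exact Or.inr (Or.inr (Or.inr (inv_eq_of_mul_eq_one_right h5)))

theorem mem_fourGroup {a b : G} (ha : a * a = 1) (hb : b * b = 1) (hab : a * b = b * a) {x : G} :
    x ∈ fourGroup a b ha hb hab ↔ x = 1 ∨ x = a ∨ x = b ∨ x = a * b := Iff.rfl

theorem sq_fourGroup {a b : G} (ha : a * a = 1) (hb : b * b = 1) (hab : a * b = b * a) {x : G}
    (hx : x ∈ fourGroup a b ha hb hab) : x * x = 1 := by
  have h5 : (a * b) * (a * b) = 1 := by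
    rw [mul_assoc, ← mul_assoc b, ← hab, mul_assoc a b, hb, mul_one, ha]
  rcases (mem_fourGroup ha hb hab).mp hx with rfl | rfl | rfl | rfl
  exacts [one_mul 1, ha, hb, h5]

theorem isPGroup_of_sq {A : Subgroup G} (hA : ∀ a ∈ A, a * a = 1) : IsPGroup 2 A := fun x =>
  ⟨1, Subtype.ext (by rw [pow_one, Subgroup.coe_pow, pow_two]; exact hA x x.2)⟩

/-- The character with a given kernel of index two. -/
theorem exists_units_hom (P : Subgroup G) {v : G} (hv : v ∉ P) (h : ∀ b : G, b ∉ P → b * v ∈ P) :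
    ∃ ψ : G →* ℤˣ, ∀ r, ψ r = 1 ↔ r ∈ P := by
  classical
  have hi : P.index = 2 := Subgroup.index_eq_two_iff.mpr ⟨v, fun b => by
    by_cases hb : b ∈ P
    · exact Or.inr ⟨hb, fun hbv => hv (by simpa using P.mul_mem (P.inv_mem hb) hbv)⟩
    · exact Or.inl ⟨h b hb, hb⟩⟩
  refine ⟨MonoidHom.mk' (fun r => if r ∈ P then 1 else -1) fun a b => ?_, fun r => ?_⟩
  · have := Subgroup.mul_mem_iff_of_index_two hi (a := a) (b := b)
    by_cases ha : a ∈ P <;> by_cases hb : b ∈ P <;> simp [this, ha, hb]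
  · show (if r ∈ P then 1 else -1 : ℤˣ) = 1 ↔ r ∈ P
    split <;> simp_all

/-- The transfer at an element whose powers fuse trivially into the subgroup. -/
theorem transfer_apply_eq [Finite G] (M : Subgroup G) {A : Type*} [CommGroup A] (ψ : M →* A) (y : M)
    (htriv : ∀ g : G, g ∉ M → ∀ r : ℕ, ∀ h : g⁻¹ * (y : G) ^ r * g ∈ M, ψ ⟨_, h⟩ = 1) :
    MonoidHom.transfer ψ (y : G) = ψ y := by
  classical
  haveI : Fintype (Quotient (MulAction.orbitRel (zpowers (y : G)) (G ⧸ M))) := Fintype.ofFinite _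
  rw [MonoidHom.transfer_eq_prod_quotient_orbitRel_zpowers_quot]
  set q₀ : Quotient (MulAction.orbitRel (zpowers (y : G)) (G ⧸ M)) := Quotient.mk'' ((1 : G) : G ⧸ M)
  rw [Finset.prod_eq_single q₀]
  · have hfix : (y : G) • ((1 : G) : G ⧸ M) = ((1 : G) : G ⧸ M) := by
      rw [MulAction.Quotient.smul_mk, smul_eq_mul, mul_one, QuotientGroup.eq]
      simp
    have hout : q₀.out = ((1 : G) : G ⧸ M) := by
      have hrel : (MulAction.orbitRel (zpowers (y : G)) (G ⧸ M)).r q₀.out ((1 : G) : G ⧸ M) :=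
        Quotient.exact (Quotient.out_eq q₀)
      obtain ⟨⟨w, hw⟩, hwe⟩ := hrel
      rw [← hwe]
      obtain ⟨i, rfl⟩ := mem_zpowers_iff.mp hw
      exact MulAction.mem_stabilizer_iff.mp (zpow_mem (MulAction.mem_stabilizer_iff.mpr hfix) i)
    have hper : Function.minimalPeriod ((y : G) • ·) q₀.out = 1 := by
      rw [hout]
      exact Function.minimalPeriod_eq_one_iff_isFixedPt.mpr hfix
    have hoM : q₀.out.out ∈ M := by
      have h1 : ((q₀.out.out : G) : G ⧸ M) = ((1 : G) : G ⧸ M) := by rw [QuotientGroup.out_eq', hout]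
      rw [QuotientGroup.eq, mul_one] at h1
      simpa using inv_mem h1
    generalize hmem : QuotientGroup.out_conj_pow_minimalPeriod_mem M (y : G) q₀.out = hm
    clear hmem
    revert hm
    rw [hper]
    intro hm
    have he : (⟨_, hm⟩ : M) = (⟨_, hoM⟩ : M)⁻¹ * y * ⟨_, hoM⟩ := Subtype.ext (by simp)
    rw [he, map_mul, map_mul, map_inv, inv_mul_cancel_comm]
  · intro q _ hq
    apply htriv
    intro hg
    apply hq
    have h1 : q.out = ((1 : G) : G ⧸ M) := by
      rw [← QuotientGroup.out_eq' q.out, QuotientGroup.eq, mul_one]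
      exact inv_mem hg
    rw [← Quotient.out_eq q, h1]
  · exact fun h => absurd (Finset.mem_univ _) h

/-- Two 2-subgroups of `H`, one of them conjugated inside `H`, lie in a common 2-subgroup. -/
theorem exists_common_two [Finite G] {H A E : Subgroup G} (hA : IsPGroup 2 A) (hE : IsPGroup 2 E)
    (hAH : A ≤ H) (hEH : E ≤ H) :
    ∃ T : Subgroup G, T ≤ H ∧ IsPGroup 2 T ∧ A ≤ T ∧ ∃ k ∈ H, ∀ e ∈ E, k * e * k⁻¹ ∈ T := by
  haveI : Fact (Nat.Prime 2) := ⟨Nat.prime_two⟩
  obtain ⟨P, hP⟩ := (hA.comap_of_injective H.subtype H.subtype_injective).exists_le_sylow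
  obtain ⟨Q, hQ⟩ := (hE.comap_of_injective H.subtype H.subtype_injective).exists_le_sylow
  obtain ⟨k, hk⟩ := MulAction.exists_smul_eq H Q P
  refine ⟨(P : Subgroup H).map H.subtype, map_subtype_le _, P.isPGroup'.map _,
    fun a ha => ⟨⟨a, hAH ha⟩, hP ha, rfl⟩, k, k.2, fun e he => ?_⟩
  have h : MulAut.conj k • (⟨e, hEH he⟩ : H) ∈ ((k • Q : Sylow 2 H) : Subgroup H) :=
    Subgroup.smul_mem_pointwise_smul _ _ _ (hQ he)
  rw [hk] at h
  exact ⟨_, h, rfl⟩

/-- A permutation of order four with fixed-point-free square on `n ≡ 4 (mod 8)` points is odd. -/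
theorem sign_eq_neg_one_of_four {α : Type*} [Fintype α] [DecidableEq α] (σ : Equiv.Perm α)
    (h4 : σ ^ 4 = 1) (h2 : ∀ a, (σ ^ 2) a ≠ a) (hn : Fintype.card α % 8 = 4) :
    Equiv.Perm.sign σ = -1 := by
  have hall : ∀ n ∈ σ.cycleType, n = 4 := by
    intro n hn'
    have hdvd : n ∣ 2 ^ 2 :=
      (Equiv.Perm.dvd_of_mem_cycleType hn').trans (orderOf_dvd_of_pow_eq_one h4)
    obtain ⟨i, hi, rfl⟩ := (Nat.dvd_prime_pow Nat.prime_two).mp hdvd
    have h2le := Equiv.Perm.two_le_of_mem_cycleType hn'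
    rw [Equiv.Perm.cycleType_def, Multiset.mem_map] at hn'
    obtain ⟨c, hcm, hc⟩ := hn'
    interval_cases i
    · norm_num at h2le
    · exfalso
      have hcy := (Equiv.Perm.mem_cycleFactorsFinset_iff.mp hcm).1
      obtain ⟨a, ha⟩ := Finset.card_pos.mp (by simpa using (hcy.two_le_card_support.trans_lt' two_pos))
      refine h2 a ?_
      rw [← Equiv.Perm.cycleOf_pow_apply_self, ← Equiv.Perm.cycle_is_cycleOf ha hcm,
        show (2 : ℕ) = orderOf c by rw [hcy.orderOf]; simpa using hc.symm, pow_orderOf_eq_one]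
      rfl
    · rfl
  have hsupp : σ.support = Finset.univ := by
    ext a
    simp only [Equiv.Perm.mem_support, Finset.mem_univ, iff_true]
    intro h
    exact h2 a (by rw [pow_two, Equiv.Perm.mul_apply, h, h])
  have hsum : σ.cycleType.sum = Fintype.card α := by
    rw [Equiv.Perm.sum_cycleType, hsupp, Finset.card_univ]
  rw [Multiset.eq_replicate_card.mpr hall, Multiset.sum_replicate, smul_eq_mul] at hsum
  rw [Equiv.Perm.sign_of_cycleType, Equiv.Perm.sum_cycleType, hsupp, Finset.card_univ]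
  exact Odd.neg_one_pow (Nat.odd_iff.mpr (by omega))

end CfsgLib.Perm.FixityFour
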