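import Cfsg.Agent.Lib.Perm.FixityFour.ModCtx
import Cfsg.Agent.Lib.Perm.FixityFour.Embedded.Group
import Cfsg.Prelude.Def_Involutions

/-!
Fixity four, degree four modulo eight, all point-fixing involutions of the stabiliser of the
four-set in its kernel: the image of the stabiliser is even with involutions in the four-group.
-/

set_option autoImplicit false
set_option linter.style.haveILetI false

namespace CfsgLib.Perm.FixityFour

open MulAction Subgroup
open scoped Pointwise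

variable {G Ω : Type*} [Group G] [MulAction G Ω]

/-- The data, with every point-fixing involution of `S` fixing `F`. -/
structure EmbCtx (S : Sylow 2 G) (F : Set Ω) : Prop where
  mod : ModCtx S F
  inv : ∀ x ∈ (S : Subgroup G), orderOf x = 2 → (∃ a : Ω, x • a = a) → x ∈ fixingSubgroup G F

namespace EmbCtx

variable {S : Sylow 2 G} {F : Set Ω}

theorem nonempty (E : EmbCtx S F) : ∃ a : Ω, a ∈ F :=
  Set.nonempty_of_ncard_ne_zero (by rw [E.mod.card]; norm_num)

theorem conj_kernel_iff {m x : G} (hm : m ∈ stabilizer G F) :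
    m * x * m⁻¹ ∈ fixingSubgroup G F ↔ x ∈ fixingSubgroup G F := by
  refine ⟨fun h => ?_, conj_mem_kernel hm⟩
  simpa [mul_assoc] using conj_mem_kernel (Subgroup.inv_mem _ hm) h

variable [Finite G] [Finite Ω]

omit [Finite Ω] in
/-- A 2-subgroup of the stabiliser is conjugate into `S`. -/
theorem exists_conj_sylow (E : EmbCtx S F) {T : Subgroup G} (hT : IsPGroup 2 T)
    (hTM : T ≤ stabilizer G F) :
    ∃ m ∈ stabilizer G F, ∀ t ∈ T, m * t * m⁻¹ ∈ (S : Subgroup G) := by
  haveI : Fact (Nat.Prime 2) := ⟨Nat.prime_two⟩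
  obtain ⟨Q, hQ⟩ := (hT.comap_of_injective (stabilizer G F).subtype
    (stabilizer G F).subtype_injective).exists_le_sylow
  obtain ⟨m, hm⟩ := MulAction.exists_smul_eq (stabilizer G F) Q (S.subtype E.mod.le)
  refine ⟨m, m.2, fun t ht => ?_⟩
  have h : MulAut.conj m • (⟨t, hTM ht⟩ : stabilizer G F) ∈
      ((m • Q : Sylow 2 (stabilizer G F)) : Subgroup (stabilizer G F)) :=
    Subgroup.smul_mem_pointwise_smul _ _ _ (hQ ht)
  rw [hm] at h
  exact h

omit [Finite Ω] in
theorem exists_conj_two (E : EmbCtx S F) {x : G} (hx : x ∈ stabilizer G F) {e : ℕ}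
    (he : x ^ 2 ^ e = 1) : ∃ m ∈ stabilizer G F, m * x * m⁻¹ ∈ (S : Subgroup G) := by
  haveI : Fact (Nat.Prime 2) := ⟨Nat.prime_two⟩
  obtain ⟨m, hm, h⟩ := E.exists_conj_sylow
    (IsPGroup.of_card_dvd_pow (n := e) ((Nat.card_zpowers x).symm ▸ orderOf_dvd_of_pow_eq_one he))
    (zpowers_le.mpr hx)
  exact ⟨m, hm, h x (mem_zpowers x)⟩

omit [Finite Ω] in
theorem inv_mem_kernel (E : EmbCtx S F) {x : G} (hx : x ∈ stabilizer G F) (hx2 : orderOf x = 2)
    {a : Ω} (ha : x • a = a) : x ∈ fixingSubgroup G F := by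
  obtain ⟨m, hm, h⟩ := E.exists_conj_two hx (e := 1) (by rw [pow_one, ← hx2, pow_orderOf_eq_one])
  refine (conj_kernel_iff hm).mp (E.inv _ h ?_ ⟨m • a, ?_⟩)
  · exact ((MulAut.conj m).orderOf_eq x).trans hx2
  · rw [mul_smul, mul_smul, inv_smul_smul, ha]

omit [Finite Ω] in
theorem point_mem_kernel (E : EmbCtx S F) {x : G} (hx : x ∈ stabilizer G F) {e : ℕ}
    (he : x ^ 2 ^ e = 1) {b : Ω} (hbF : b ∈ F) (hb : x • b = b) : x ∈ fixingSubgroup G F := by
  obtain ⟨m, hm, h⟩ := E.exists_conj_two hx he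
  refine (conj_kernel_iff hm).mp (E.mod.point (m • b) ?_ _ h ?_)
  · rw [← mem_stabilizer_iff.mp hm]
    exact Set.smul_mem_smul_set hbF
  · rw [mul_smul, mul_smul, inv_smul_smul, hb]

/-- A 2-element of the stabiliser with a fixed point fixes the four points. -/
theorem two_mem_kernel (E : EmbCtx S F) {x : G} (hx : x ∈ stabilizer G F) {e : ℕ}
    (he : x ^ 2 ^ e = 1) {a : Ω} (ha : x • a = a) : x ∈ fixingSubgroup G F := by
  by_cases hx1 : x = 1
  · exact hx1 ▸ one_mem _
  obtain ⟨j, hj⟩ := exists_involution_pow he hx1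
  have hjK := E.inv_mem_kernel (pow_mem hx j) hj (fixedBy_pow_subset x j ha)
  have haF : a ∈ F := E.mod.fixedBy_eq hjK (ne_one_of_order_two hj) ▸ fixedBy_pow_subset x j ha
  exact E.point_mem_kernel hx he haF ha

/-- A nontrivial point-fixing 2-element lies in no other conjugate of the stabiliser. -/
theorem mem_of_two (E : EmbCtx S F) {x : G} (hx : x ∈ stabilizer G F) {e : ℕ} (he : x ^ 2 ^ e = 1)
    (hx1 : x ≠ 1) {a : Ω} (ha : x • a = a) {g : G} (hg : g⁻¹ * x * g ∈ stabilizer G F) :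
    g ∈ stabilizer G F := by
  have hF := E.mod.fixedBy_eq (E.two_mem_kernel hx he ha) hx1
  have hy : (g⁻¹ * x * g) • (g⁻¹ • a) = g⁻¹ • a := by rw [mul_smul, mul_smul, smul_inv_smul, ha]
  have hye : (g⁻¹ * x * g) ^ 2 ^ e = 1 := by
    have h := map_pow (MulAut.conj g⁻¹) x (2 ^ e)
    rw [he, map_one, MulAut.conj_apply, inv_inv] at h
    exact h.symm
  have h1 := E.mod.fixedBy_eq (E.two_mem_kernel hg hye hy)
    (fun h => hx1 (conj_eq_one_iff.mp (show g⁻¹ * x * g⁻¹⁻¹ = 1 by rw [inv_inv]; exact h)))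
  rw [show g⁻¹ * x * g = g⁻¹ * x * g⁻¹⁻¹ by rw [inv_inv], fixedBy_conj, hF] at h1
  exact inv_mem_iff.mp (show g⁻¹ ∈ stabilizer G F from h1)

/-- The same for an element one of whose powers is a nontrivial 2-element of the kernel. -/
theorem mem_of_pow_kernel (E : EmbCtx S F) {x : G} (hx : x ∈ stabilizer G F) {n e : ℕ}
    (hk : x ^ n ∈ fixingSubgroup G F) (he : (x ^ n) ^ 2 ^ e = 1) (hne : x ^ n ≠ 1) {g : G}
    (hg : g⁻¹ * x * g ∈ stabilizer G F) : g ∈ stabilizer G F := by
  obtain ⟨a, ha⟩ := E.nonempty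
  refine E.mem_of_two (pow_mem hx n) he hne (mem_kernel_iff.mp hk a ha) ?_
  have h := map_pow (MulAut.conj g⁻¹) x n
  simp only [MulAut.conj_apply, inv_inv] at h
  exact h ▸ pow_mem hg n

/-- The involution of the cyclic group of a 2-element with a power in the kernel. -/
theorem pow_conj_mem (E : EmbCtx S F) {y : G} (hy : y ∈ stabilizer G F) {e t : ℕ}
    (he : y ^ 2 ^ e = 1) (hk : y ^ 2 ^ t ∈ fixingSubgroup G F) (hne : y ^ 2 ^ t ≠ 1) {g : G} {r : ℕ}
    (hg : g⁻¹ * y ^ r * g ∈ stabilizer G F) : y ^ r = 1 ∨ g ∈ stabilizer G F := by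
  by_cases hr : y ^ r = 1
  · exact Or.inl hr
  refine Or.inr ?_
  obtain ⟨k, -, hk2⟩ := (Nat.dvd_prime_pow Nat.prime_two).mp (orderOf_dvd_of_pow_eq_one he)
  have hpow : ∀ n, (y ^ n) ^ 2 ^ e = 1 := fun n => by rw [← pow_mul, mul_comm, pow_mul, he, one_pow]
  obtain ⟨j, hj⟩ := exists_involution_pow (hpow r) hr
  obtain ⟨i, hi⟩ := exists_involution_pow (hpow (2 ^ t)) hne
  have hjK : (y ^ r) ^ j ∈ fixingSubgroup G F := by
    rw [← pow_mul] at hj ⊢
    rw [← pow_mul] at hi
    rw [pow_eq_half hk2 hj, ← pow_eq_half hk2 hi, pow_mul]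
    exact pow_mem hk i
  exact E.mem_of_pow_kernel (pow_mem hy r) (e := 1) hjK
    (by rw [pow_one, pow_two]; exact pow_two_eq_one hj) (ne_one_of_order_two hj) hg

/-- A 2-element with a nontrivial power in the kernel dies in every abelian image of the
stabiliser. -/
theorem hom_two_eq_one [IsSimpleGroup G] (hna : ¬ IsMulCommutative G) (E : EmbCtx S F) {A : Type*}
    [CommGroup A] (ψ : stabilizer G F →* A) (y : stabilizer G F) {e t : ℕ}
    (he : (y : G) ^ 2 ^ e = 1) (hk : (y : G) ^ 2 ^ t ∈ fixingSubgroup G F)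
    (hne : (y : G) ^ 2 ^ t ≠ 1) : ψ y = 1 := by
  refine hom_apply_eq_one hna _ ψ y fun g hg r h => ?_
  rcases E.pow_conj_mem y.2 he hk hne h with h1 | h1
  · have : (⟨g⁻¹ * (y : G) ^ r * g, h⟩ : stabilizer G F) = 1 := Subtype.ext (by simp [h1])
    rw [this, map_one]
  · exact absurd h1 hg

omit [Finite G] [Finite Ω] in
theorem card_image (E : EmbCtx S F) : Nat.card (image E.mod.le).range = 4 := by
  rw [← Subgroup.index_ker, ← E.mod.index]
  have : (image E.mod.le).ker = (kerPart S F).subgroupOf (S : Subgroup G) := by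
    ext x
    rw [MonoidHom.mem_ker, image_eq_one_iff, mem_subgroupOf, kerPart, mem_inf]
    exact ⟨fun h => ⟨x.2, h⟩, fun h => h.2⟩
  rw [this]
  rfl

omit [Finite Ω] in
/-- A second element of `S` outside the kernel. -/
theorem exists_second (E : EmbCtx S F) (s : G) (hs : s ∈ (S : Subgroup G)) :
    ∃ a ∈ (S : Subgroup G), a ∉ fixingSubgroup G F ∧ a * s ∉ fixingSubgroup G F := by
  by_contra! hall
  set f := image E.mod.le with hf
  have hsub : (f.range : Set (Equiv.Perm F)) ⊆ {1, (f ⟨s, hs⟩)⁻¹} := by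
    rintro _ ⟨a, rfl⟩
    by_cases h : (a : G) ∈ fixingSubgroup G F
    · exact Or.inl ((image_eq_one_iff _).mpr h)
    · refine Or.inr (eq_inv_of_mul_eq_one_left ?_)
      rw [← map_mul, image_eq_one_iff]
      exact hall a a.2 h
  have h1 := E.card_image
  rw [← SetLike.coe_sort_coe, Nat.card_coe_set_eq] at h1
  have h2 := (Set.ncard_le_ncard hsub (Set.toFinite _)).trans (Set.ncard_insert_le _ _)
  simp only [Set.ncard_singleton] at h2
  rw [← hf] at h1
  omega

variable [IsSimpleGroup G] (hna : ¬ IsMulCommutative G)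

include hna

/-- Squares of `S` fix `F`. -/
theorem sq_mem [FaithfulSMul G Ω] (E : EmbCtx S F) {y : G} (hy : y ∈ (S : Subgroup G)) :
    y * y ∈ fixingSubgroup G F := by
  classical
  haveI := Fintype.ofFinite Ω
  haveI := Fintype.ofFinite ↥F
  by_contra hyK
  set f := image E.mod.le with hf
  have hv4 : f ⟨y, hy⟩ ^ 4 = 1 := by
    have h1 := congrArg Subtype.val (pow_card_eq_one' (G := f.range) (x := ⟨_, ⟨⟨y, hy⟩, rfl⟩⟩))
    rwa [E.card_image] at h1
  have hv2 : f ⟨y, hy⟩ * f ⟨y, hy⟩ ≠ 1 := by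
    rw [← map_mul, ne_eq, image_eq_one_iff]
    exact hyK
  obtain ⟨e, he⟩ := exists_pow_two_pow S hy
  by_cases hy4 : y ^ 4 = 1
  · have h2 : y * y ≠ 1 := fun h => hyK (h ▸ one_mem _)
    have h22 : orderOf (y * y) = 2 := order_two (by rw [← hy4]; simp only [pow_succ, pow_zero, one_mul, mul_assoc]) h2
    have hfree : ∀ a : Ω, (y * y) • a ≠ a := fun a ha =>
      hyK (E.inv _ (mul_mem hy hy) h22 ⟨a, ha⟩)
    have h := sign_eq_neg_one_of_four (MulAction.toPermHom G Ω y) (by rw [← map_pow, hy4, map_one])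
      (fun a => by rw [← map_pow, pow_two]; exact hfree a)
      (by rw [← Nat.card_eq_fintype_card]; exact E.mod.deg)
    rw [sign_toPermHom hna] at h
    exact absurd h (by decide)
  · have hk : y ^ 2 ^ 2 ∈ fixingSubgroup G F := by
      have h1 : f ⟨y, hy⟩ ^ 4 = 1 := hv4
      rw [← map_pow, image_eq_one_iff] at h1
      exact h1
    have h := E.hom_two_eq_one hna (Equiv.Perm.sign.comp (image (le_refl (stabilizer G F))))
      ⟨y, E.mod.le hy⟩ he hk hy4
    have h' : Equiv.Perm.sign (f ⟨y, hy⟩) = -1 :=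
      PermFour.cycle_sign ((Nat.card_coe_set_eq F).trans E.mod.card) hv2
        (by rw [← hv4]; simp only [pow_succ, pow_zero, one_mul, mul_assoc])
    rw [MonoidHom.comp_apply, show image (le_refl (stabilizer G F)) ⟨y, E.mod.le hy⟩ = f ⟨y, hy⟩ from
      rfl, h'] at h
    exact absurd h (by decide)

theorem sq_mem_two [FaithfulSMul G Ω] (E : EmbCtx S F) {x : G} (hx : x ∈ stabilizer G F) {e : ℕ}
    (he : x ^ 2 ^ e = 1) : x * x ∈ fixingSubgroup G F := by
  obtain ⟨m, hm, h⟩ := E.exists_conj_two hx he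
  refine (conj_kernel_iff hm).mp ?_
  have := E.sq_mem hna h
  rwa [show m * x * m⁻¹ * (m * x * m⁻¹) = m * (x * x) * m⁻¹ by group] at this

/-- The stabiliser induces even permutations on the four points. -/
theorem image_even [FaithfulSMul G Ω] [Fintype F] [DecidableEq F] (E : EmbCtx S F)
    (x : stabilizer G F) : Equiv.Perm.sign (image (le_refl (stabilizer G F)) x) = 1 := by
  refine units_hom_eq_one (Equiv.Perm.sign.comp (image (le_refl (stabilizer G F)))) ?_ x
  rintro y ⟨e, he⟩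
  have hye : (y : G) ^ 2 ^ e = 1 := congrArg Subtype.val he
  obtain ⟨m, hm, h⟩ := E.exists_conj_two y.2 hye
  set φ := Equiv.Perm.sign.comp (image (le_refl (stabilizer G F)))
  have h1 : φ y = φ (⟨m, hm⟩ * y * ⟨m, hm⟩⁻¹) := by
    rw [map_mul, map_mul, map_inv, mul_inv_cancel_comm]
  rw [h1]
  set s : stabilizer G F := ⟨m, hm⟩ * y * ⟨m, hm⟩⁻¹
  have hs : (s : G) ∈ (S : Subgroup G) := h
  have hss : image (le_refl (stabilizer G F)) s * image (le_refl (stabilizer G F)) s = 1 := by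
    rw [← map_mul, image_eq_one_iff]
    exact E.sq_mem hna hs
  show Equiv.Perm.sign (image (le_refl (stabilizer G F)) s) = 1
  by_cases hfix : ∃ b, image (le_refl (stabilizer G F)) s b = b
  · obtain ⟨b, hb⟩ := hfix
    rw [(image_eq_one_iff _).mpr (E.mod.point b b.2 _ hs ((image_fix_iff _).mp hb)), map_one]
  · push Not at hfix
    exact PermFour.fpf_involution ((Nat.card_coe_set_eq F).trans E.mod.card) hss hfix

/-- The action on the three pairings of the four points. -/
theorem exists_lambda [FaithfulSMul G Ω] (E : EmbCtx S F) :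
    ∃ l : stabilizer G F →* Multiplicative (ZMod 3),
      (∀ x : stabilizer G F, l x = 1 ↔ (x : G) * x ∈ fixingSubgroup G F) ∧
      ∀ x : stabilizer G F, l x ≠ 1 →
        ∃ b ∈ F, (x : G) • b = b ∧ ∀ c ∈ F, (x : G) • c = c → c = b := by
  classical
  haveI := Fintype.ofFinite ↥F
  obtain ⟨l, h1, h2⟩ :=
    PermFour.exists_pairing_hom (α := F) ((Nat.card_coe_set_eq F).trans E.mod.card)
  refine ⟨l.comp ((image (le_refl (stabilizer G F))).codRestrict (Equiv.Perm.sign).ker
    fun x => E.image_even hna x), fun x => ?_, fun x hx => ?_⟩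
  · rw [MonoidHom.comp_apply, h1]
    show image _ x * image _ x = 1 ↔ _
    rw [← map_mul, image_eq_one_iff]
    rfl
  · obtain ⟨b, hb, hu⟩ := h2 _ hx
    exact ⟨b, b.2, (image_fix_iff _).mp hb, fun c hc hxc =>
      congrArg Subtype.val (hu ⟨c, hc⟩ ((image_fix_iff _).mpr hxc))⟩

omit hna [IsSimpleGroup G] [Finite G] in
/-- A subgroup with all squares in the kernel has image of order at most four. -/
theorem cases_of_sq (E : EmbCtx S F) {R : Subgroup G} (hR : R ≤ stabilizer G F)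
    (hsq : ∀ x ∈ R, x * x ∈ fixingSubgroup G F) {a b c : G} (ha : a ∈ R) (hb : b ∈ R) (hc : c ∈ R)
    (haK : a ∉ fixingSubgroup G F) (hbK : b ∉ fixingSubgroup G F)
    (habK : a * b ∉ fixingSubgroup G F) :
    c ∈ fixingSubgroup G F ∨ c * a ∈ fixingSubgroup G F ∨ c * b ∈ fixingSubgroup G F ∨
      c * (a * b) ∈ fixingSubgroup G F := by
  set f := image hR
  have hff : ∀ r, f r * f r = 1 := fun r => by
    rw [← map_mul, image_eq_one_iff]; exact hsq _ r.2
  have hcomm : ∀ r s, f r * f s = f s * f r := fun r s => by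
    refine Rank.comm_of_sq (A := f.range) ?_ ⟨r, rfl⟩ ⟨s, rfl⟩
    rintro _ ⟨q, rfl⟩
    exact hff q
  have hK : ∀ r : R, f r = 1 ↔ (r : G) ∈ fixingSubgroup G F := fun r => image_eq_one_iff hR
  have hne : f ⟨a, ha⟩ ≠ f ⟨b, hb⟩ := fun h => habK ((hK (⟨a, ha⟩ * ⟨b, hb⟩)).mp (by
    rw [map_mul, h, hff]))
  have hto : ∀ r : R, f ⟨c, hc⟩ = f r → c * r ∈ fixingSubgroup G F := fun r h =>
    (hK (⟨c, hc⟩ * r)).mp (by rw [map_mul, h, hff])
  rcases PermFour.cent_four (α := F) ((Nat.card_coe_set_eq F).trans E.mod.card) (hff _)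
    (fun h => haK ((hK _).mp h)) (hff _) (fun h => hbK ((hK _).mp h)) hne (hcomm _ _) (hcomm ⟨c, hc⟩ _)
    (hcomm _ _) with h | h | h | h
  · exact Or.inl ((hK _).mp h)
  · exact Or.inr (Or.inl (hto _ h))
  · exact Or.inr (Or.inr (Or.inl (hto _ h)))
  · rw [← map_mul] at h
    exact Or.inr (Or.inr (Or.inr (hto _ h)))

omit hna [IsSimpleGroup G] in
/-- The character of such a subgroup with a given kernel on the image. -/
theorem exists_char (E : EmbCtx S F) {R : Subgroup G} (hR : R ≤ stabilizer G F)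
    (hsq : ∀ x ∈ R, x * x ∈ fixingSubgroup G F) {u v : G} (hu : u ∈ R) (hv : v ∈ R)
    (huK : u ∉ fixingSubgroup G F) (hvK : v ∉ fixingSubgroup G F)
    (huvK : u * v ∉ fixingSubgroup G F) :
    ∃ ψ : R →* ℤˣ, ψ ⟨v, hv⟩ ≠ 1 ∧
      ∀ x : R, (ψ x = 1 ↔ (x : G) ∈ fixingSubgroup G F ∨ (x : G) * u ∈ fixingSubgroup G F) := by
  set f := image hR
  have hK : ∀ r : R, f r = 1 ↔ (r : G) ∈ fixingSubgroup G F := fun r => image_eq_one_iff hR
  have hfu : f ⟨u, hu⟩ * f ⟨u, hu⟩ = 1 := by rw [← map_mul, hK]; exact hsq u hu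
  set P := (zpowers (f ⟨u, hu⟩)).comap f with hP
  have hmem : ∀ x : R,
      x ∈ P ↔ (x : G) ∈ fixingSubgroup G F ∨ (x : G) * u ∈ fixingSubgroup G F := by
    intro x
    rw [hP, mem_comap, ← hK x, show (x : G) * u = ((x * ⟨u, hu⟩ : R) : G) from rfl, ← hK, map_mul]
    constructor
    · intro h
      rcases mem_zpowers_two hfu h with h | h
      · exact Or.inl h
      · exact Or.inr (by rw [h, hfu])
    · rintro (h | h)
      · rw [h]; exact one_mem _
      · rw [eq_inv_of_mul_eq_one_left h]; exact Subgroup.inv_mem _ (mem_zpowers _)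
  have hnorm : ∀ {x y : G}, y ∈ R → x ∈ fixingSubgroup G F → y * x * y⁻¹ ∈ fixingSubgroup G F :=
    fun hy hx => conj_mem_kernel (hR hy) hx
  have hvP : (⟨v, hv⟩ : R) ∉ P := fun h => by
    rcases (hmem _).mp h with h | h
    · exact hvK h
    · refine huvK ?_
      have := hnorm hu h
      rwa [show u * ((v : G) * u) * u⁻¹ = u * v by group] at this
  obtain ⟨ψ, hψ⟩ := exists_units_hom P hvP fun b hb => by
    rw [hmem] at hb ⊢
    push Not at hb
    rcases E.cases_of_sq hR hsq hu hv b.2 huK hvK huvK with h | h | h | h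
    · exact absurd h hb.1
    · exact absurd h hb.2
    · exact Or.inl h
    · refine Or.inr ?_
      have e1 : f ⟨u, hu⟩ * f ⟨v, hv⟩ = f ⟨v, hv⟩ * f ⟨u, hu⟩ := by
        refine Rank.comm_of_sq (A := f.range) ?_ ⟨_, rfl⟩ ⟨_, rfl⟩
        rintro _ ⟨q, rfl⟩
        rw [← map_mul, hK]; exact hsq _ q.2
      have h1 : f b * (f ⟨u, hu⟩ * f ⟨v, hv⟩) = 1 := by rw [← map_mul, ← map_mul, hK]; exact h
      refine (hK (b * ⟨v, hv⟩ * ⟨u, hu⟩)).mp ?_
      rw [map_mul, map_mul, mul_assoc, ← e1]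
      exact h1
  exact ⟨ψ, fun h => hvP ((hψ _).mp h), fun x => (hψ x).trans (hmem x)⟩

omit hna [IsSimpleGroup G] [Finite Ω] in
theorem stab_ne_top [FaithfulSMul G Ω] (E : EmbCtx S F) : stabilizer G F ≠ ⊤ := by
  obtain ⟨a, ha⟩ := E.nonempty
  haveI := E.mod.trans
  obtain ⟨b, hb⟩ : ∃ b, b ∉ F := by
    by_contra! hall
    have h8 := E.mod.eight
    obtain ⟨w, hw, hw1⟩ := exists_ne_one_of_two_le (X := kerPart S F) (by omega)
    exact hw1 (eq_of_smul_eq_smul fun x : Ω => by
      rw [one_smul]; exact mem_kernel_iff.mp hw.2 x (hall x))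
  exact setStab_ne_top ha hb

omit hna [IsSimpleGroup G] in
/-- If no involution of `S` outside the kernel is fused out of the stabiliser, the stabiliser is
strongly embedded. -/
theorem done_of_good [FaithfulSMul G Ω] (E : EmbCtx S F)
    (hgood : ∀ u ∈ (S : Subgroup G), orderOf u = 2 → u ∉ fixingSubgroup G F → ∀ g : G,
      g ∉ stabilizer G F → g⁻¹ * u * g ∉ stabilizer G F) : Done G := by
  haveI : Fact (Nat.Prime 2) := ⟨Nat.prime_two⟩
  refine Or.inl ⟨stabilizer G F, E.stab_ne_top, ?_, fun g hg => ?_⟩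
  · obtain ⟨w, hw, hw1⟩ :=
      exists_ne_one_of_two_le (X := kerPart S F) (by have := E.mod.eight; omega)
    obtain ⟨e, he⟩ := exists_pow_two_pow S hw.1
    obtain ⟨j, hj⟩ := exists_involution_pow he hw1
    exact even_iff_two_dvd.mpr
      (hj ▸ orderOf_dvd_natCard (stabilizer G F) (pow_mem (E.mod.le hw.1) j))
  · by_contra heven
    rw [Nat.not_odd_iff_even, even_iff_two_dvd] at heven
    obtain ⟨⟨x, hx⟩, hx2⟩ := exists_prime_orderOf_dvd_card' 2 heven
    rw [Subgroup.orderOf_mk] at hx2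
    obtain ⟨hxM, y, hy, hyx⟩ := hx
    have hyx' : g * y * g⁻¹ = x := hyx
    obtain ⟨m, hm, hmS⟩ :=
      E.exists_conj_two hxM (e := 1) (by rw [pow_one, ← hx2, pow_orderOf_eq_one])
    set u := m * x * m⁻¹ with hu
    have hu2 : orderOf u = 2 := ((MulAut.conj m).orderOf_eq x).trans hx2
    have hmg : m * g ∉ stabilizer G F := fun h =>
      hg (by simpa using Subgroup.mul_mem _ (Subgroup.inv_mem _ hm) h)
    have hconj : (m * g)⁻¹ * u * (m * g) ∈ stabilizer G F := by
      rw [show (m * g)⁻¹ * u * (m * g) = y by rw [hu, ← hyx']; group]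
      exact hy
    by_cases huK : u ∈ fixingSubgroup G F
    · obtain ⟨a, ha⟩ := E.nonempty
      exact hmg (E.mem_of_two (E.mod.le hmS) (e := 1)
        (by rw [pow_one, pow_two]; exact pow_two_eq_one hu2) (ne_one_of_order_two hu2)
        (mem_kernel_iff.mp huK a ha) hconj)
    · exact hgood u hmS hu2 huK _ hmg hconj

end EmbCtx

end CfsgLib.Perm.FixityFour
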