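import Cfsg.Agent.Lib.Perm.FixityFour.Embedded.Frob
import Cfsg.Agent.Lib.Perm.FixityFour.Embedded.Setup
import Cfsg.Agent.Lib.TwoGroups.Classify

/-!
An involution outside the kernel that commutes with a four-group of the kernel lies in no other
conjugate of the stabiliser of the four-set.
-/

set_option autoImplicit false
set_option linter.style.haveILetI false

namespace CfsgLib.Perm.FixityFour

open MulAction Subgroup
open scoped Pointwise

variable {G Ω : Type*} [Group G] [MulAction G Ω]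

namespace EmbCtx

variable {S : Sylow 2 G} {F : Set Ω}

theorem kerPart_normal (E : EmbCtx S F) : ((kerPart S F).subgroupOf (S : Subgroup G)).Normal :=
  ⟨fun _ hw s => E.mod.conj_mem s.2 hw⟩

variable [Finite G] [Finite Ω]

omit [Finite Ω] in
/-- An involution of the kernel central in `S`. -/
theorem exists_central (E : EmbCtx S F) :
    ∃ z ∈ kerPart S F, orderOf z = 2 ∧ ∀ s ∈ (S : Subgroup G), s * z = z * s := by
  haveI := E.kerPart_normal
  have hne : (kerPart S F).subgroupOf (S : Subgroup G) ≠ ⊥ := by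
    rw [ne_eq, subgroupOf_eq_bot, disjoint_iff]
    intro h
    rw [inf_eq_left.mpr (show kerPart S F ≤ (S : Subgroup G) from inf_le_left)] at h
    have := E.mod.eight
    rw [h, card_bot] at this
    omega
  obtain ⟨z, hz, hz2, hzc⟩ := TwoGroups.Classify.exists_central_involution S.isPGroup' _ hne
  exact ⟨z, hz, by rwa [Subgroup.orderOf_coe], fun s hs =>
    congrArg Subtype.val (Subgroup.mem_center_iff.mp hzc ⟨s, hs⟩)⟩

omit [Finite Ω] in
/-- A 2-subgroup of the stabiliser centralises an involution of the kernel. -/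
theorem exists_commuting_kernel (E : EmbCtx S F) {T : Subgroup G} (hT : IsPGroup 2 T)
    (hTM : T ≤ stabilizer G F) :
    ∃ j, orderOf j = 2 ∧ j ∈ fixingSubgroup G F ∧ ∀ t ∈ T, j * t = t * j := by
  obtain ⟨m, hm, h⟩ := E.exists_conj_sylow hT hTM
  obtain ⟨z, hz, hz2, hzc⟩ := E.exists_central
  refine ⟨m⁻¹ * z * m, ?_, ?_, fun t ht => ?_⟩
  · have := (MulAut.conj m⁻¹).orderOf_eq z
    rw [MulAut.conj_apply, inv_inv] at this
    exact this.trans hz2
  · refine (conj_kernel_iff hm).mp ?_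
    rw [show m * (m⁻¹ * z * m) * m⁻¹ = z by group]
    exact hz.2
  · calc m⁻¹ * z * m * t = m⁻¹ * (z * (m * t * m⁻¹)) * m := by group
      _ = m⁻¹ * ((m * t * m⁻¹) * z) * m := by rw [hzc _ (h t ht)]
      _ = t * (m⁻¹ * z * m) := by group

omit [Finite Ω] in
/-- An involution outside the kernel moves every point. -/
theorem fpf (E : EmbCtx S F) {u : G} (hu : u ∈ stabilizer G F) (hu2 : orderOf u = 2)
    (huK : u ∉ fixingSubgroup G F) (a : Ω) : u • a ≠ a :=
  fun h => huK (E.inv_mem_kernel hu hu2 h)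

/-- The centraliser of a fused involution leaves the stabiliser. -/
theorem cent_not_le (E : EmbCtx S F) {u g : G} (hu2 : orderOf u = 2)
    (hg : g ∉ stabilizer G F) (hgu : g⁻¹ * u * g ∈ stabilizer G F) :
    ¬ centralizer ({u} : Set G) ≤ stabilizer G F := by
  intro hle
  have h2 : IsPGroup 2 (zpowers (g⁻¹ * u * g)) := by
    refine isPGroup_of_sq fun a ha => ?_
    have h1 : g⁻¹ * u * g * (g⁻¹ * u * g) = 1 := by
      calc _ = g⁻¹ * (u * u) * g := by group
        _ = 1 := by rw [pow_two_eq_one hu2]; group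
    rcases mem_zpowers_two h1 ha with rfl | rfl
    exacts [one_mul 1, h1]
  obtain ⟨j, hj2, hjK, hjc⟩ := E.exists_commuting_kernel h2 (zpowers_le.mpr hgu)
  have hp : g * j * g⁻¹ ∈ centralizer ({u} : Set G) := mem_centralizer_singleton_iff.mpr <| by
    calc g * j * g⁻¹ * u = g * (j * (g⁻¹ * u * g)) * g⁻¹ := by group
      _ = g * ((g⁻¹ * u * g) * j) * g⁻¹ := by rw [hjc _ (mem_zpowers _)]
      _ = u * (g * j * g⁻¹) := by group
  obtain ⟨a, ha⟩ := E.nonempty
  refine hg (E.mem_of_two (hle hp) (e := 1) ?_ (a := g • a) ?_ ?_ ?_)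
  · rw [pow_one, pow_two]
    calc g * j * g⁻¹ * (g * j * g⁻¹) = g * (j * j) * g⁻¹ := by group
      _ = 1 := by rw [pow_two_eq_one hj2]; group
  · exact fun h => ne_one_of_order_two hj2 (conj_eq_one_iff.mp h)
  · rw [mul_smul, mul_smul, inv_smul_smul, mem_kernel_iff.mp hjK a ha]
  · rw [show g⁻¹ * (g * j * g⁻¹) * g = j by group]
    exact kernel_le_setStab F hjK

/-- Only the identity of the kernel is fused out along the centraliser of a fixed-point-free
involution of the stabiliser. -/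
theorem kernel_rule (E : EmbCtx S F) {u h x : G} (hu : u ∈ stabilizer G F) (hu2 : orderOf u = 2)
    (huK : u ∉ fixingSubgroup G F) (hhu : h * u = u * h) (hh : h ∉ stabilizer G F)
    (hx : x ∈ fixingSubgroup G F) (hhx : h⁻¹ * x * h ∈ stabilizer G F) : x = 1 := by
  obtain ⟨k, n, hn, h2, -⟩ := exists_parts x
  have hxn : x ^ n = 1 := by
    by_contra hne
    refine hh (E.mem_of_pow_kernel (kernel_le_setStab F hx) (pow_mem hx n) h2 hne hhx)
  set X := h • F \ F with hX
  have huhF : u • (h • F) = h • F := by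
    rw [smul_smul, ← hhu, ← smul_smul, mem_stabilizer_iff.mp hu]
  have hxhF : x • (h • F) = h • F := by
    rw [show x = h * (h⁻¹ * x * h) * h⁻¹ by group, smul_smul, inv_mul_cancel_right, ← smul_smul,
      mem_stabilizer_iff.mp hhx]
  have hu1 : u * u = 1 := pow_two_eq_one hu2
  have h2d : 2 ∣ (h • F ∩ F).ncard := by
    have := card_dvd_of_free (zpowers u) (h • F ∩ F) ?_ ?_
    · rwa [Nat.card_zpowers, hu2] at this
    · intro w hw y hy
      rcases mem_zpowers_two hu1 hw with rfl | rfl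
      · rwa [one_smul]
      · constructor
        · rw [← huhF]; exact Set.smul_mem_smul_set hy.1
        · rw [← mem_stabilizer_iff.mp hu]; exact Set.smul_mem_smul_set hy.2
    · intro w hw y _ hwy
      rcases mem_zpowers_two hu1 hw with rfl | rfl
      · rfl
      · exact absurd hwy (E.fpf hu hu2 huK y)
  have hFh : (h • F).ncard = 4 := by rw [Set.ncard_smul_set, E.mod.card]
  have hne4 : (h • F ∩ F).ncard ≠ 4 := fun h4 => hh <| mem_stabilizer_iff.mpr <| by
    refine Set.eq_of_subset_of_ncard_le (fun y hy => ?_) (by rw [hFh, E.mod.card]) (Set.toFinite _)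
    have := Set.eq_of_subset_of_ncard_le (Set.inter_subset_left (t := F)) (by rw [hFh, h4])
      (Set.toFinite _)
    exact (this.symm ▸ hy : y ∈ h • F ∩ F).2
  have hsum : X.ncard + (h • F ∩ F).ncard = 4 := by
    rw [← hFh, hX, Nat.add_comm]
    exact Set.ncard_inter_add_ncard_sdiff_eq_ncard _ _ (Set.toFinite _)
  have hdvd := card_dvd_of_free (zpowers x) X ?_ ?_
  · have hodd : Odd (orderOf x) := Odd.of_dvd_nat hn (orderOf_dvd_of_pow_eq_one hxn)
    rw [Nat.card_zpowers] at hdvd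
    have hd4 : orderOf x ∣ 4 := hdvd.trans (by
      have : X.ncard = 2 ∨ X.ncard = 4 := by omega
      rcases this with e | e <;> rw [e]; norm_num)
    have hle := Nat.le_of_dvd (by norm_num) hd4
    rw [← orderOf_eq_one_iff]
    obtain ⟨i, hi⟩ := hodd
    have : orderOf x = 1 ∨ orderOf x = 3 := by omega
    rcases this with e | e
    · exact e
    · rw [e] at hd4; norm_num at hd4
  · intro w hw y hy
    obtain ⟨i, rfl⟩ := mem_zpowers_iff.mp hw
    have h1 : x ^ i ∈ stabilizer G (h • F) := zpow_mem (mem_stabilizer_iff.mpr hxhF) i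
    refine ⟨?_, compl_invariant (zpow_mem (kernel_le_setStab F hx) i) hy.2⟩
    rw [← mem_stabilizer_iff.mp h1]
    exact Set.smul_mem_smul_set hy.1
  · intro w hw y hy hwy
    exact eq_one_of_extra E.mod.four.fix E.mod.card hy.2 hwy
      (mem_kernel_iff.mp ((zpowers_le.mpr hx) hw))

variable [IsSimpleGroup G] [FaithfulSMul G Ω] (hna : ¬ IsMulCommutative G)

include hna

/-- An element centralising an involution of the image has its square in the kernel. -/
theorem sq_mem_of_comm (E : EmbCtx S F) {a s : G} (ha : a ∈ stabilizer G F) (ha2 : a * a = 1)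
    (haK : a ∉ fixingSubgroup G F) (hs : s ∈ stabilizer G F) (hc : s * a = a * s) :
    s * s ∈ fixingSubgroup G F := by
  classical
  haveI := Fintype.ofFinite ↥F
  set f := image (le_refl (stabilizer G F)) with hf
  have h := PermFour.even_cent (α := F) ((Nat.card_coe_set_eq F).trans E.mod.card)
    (a := f ⟨a, ha⟩) (s := f ⟨s, hs⟩)
    (by rw [← map_mul, image_eq_one_iff]; simp [ha2])
    (fun h => haK ((image_eq_one_iff _).mp h)) (E.image_even hna _) (E.image_even hna _)
    (by rw [← map_mul, ← map_mul]; exact congrArg f (Subtype.ext hc))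
  rw [← map_mul, image_eq_one_iff] at h
  exact h

/-- An element of the centraliser fused out along it is an involution. -/
theorem cent_conj_sq (E : EmbCtx S F) {u h x : G} (hu : u ∈ stabilizer G F) (hu2 : orderOf u = 2)
    (huK : u ∉ fixingSubgroup G F) (hhu : h * u = u * h) (hh : h ∉ stabilizer G F)
    (hx : x ∈ stabilizer G F) (hxu : x * u = u * x) (hhx : h⁻¹ * x * h ∈ stabilizer G F) :
    x * x = 1 :=
  E.kernel_rule hu hu2 huK hhu hh (E.sq_mem_of_comm hna hu (pow_two_eq_one hu2) huK hx hxu)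
    (by rw [show h⁻¹ * (x * x) * h = (h⁻¹ * x * h) * (h⁻¹ * x * h) by group]
        exact Subgroup.mul_mem _ hhx hhx)

omit [IsSimpleGroup G] [FaithfulSMul G Ω] hna in
/-- The same after multiplying by an element centralised by `h`. -/
theorem kernel_rule_mul (E : EmbCtx S F) {u h x w : G} (hu : u ∈ stabilizer G F) (hu2 : orderOf u = 2)
    (huK : u ∉ fixingSubgroup G F) (hhu : h * u = u * h) (hh : h ∉ stabilizer G F)
    (hw : w ∈ stabilizer G F) (hww : w * w = 1) (hhw : h * w = w * h)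
    (hxw : x * w ∈ fixingSubgroup G F) (hhx : h⁻¹ * x * h ∈ stabilizer G F) : x = w := by
  have h1 := E.kernel_rule hu hu2 huK hhu hh hxw (by
    rw [show h⁻¹ * (x * w) * h = (h⁻¹ * x * h) * (h⁻¹ * (w * h)) by group, ← hhw, inv_mul_cancel_left]
    exact Subgroup.mul_mem _ hhx hw)
  rw [eq_inv_of_mul_eq_one_left h1]
  exact inv_eq_of_mul_eq_one_right hww

/-- No element of order four outside `⟨u⟩` modulo the kernel in the centraliser of a fused `u`. -/
theorem no_cycle (E : EmbCtx S F) {u e₁ e₂ y : G} (hu : u ∈ stabilizer G F) (hu2 : orderOf u = 2)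
    (huK : u ∉ fixingSubgroup G F) (hC : ¬ centralizer ({u} : Set G) ≤ stabilizer G F)
    (k₁ : e₁ ∈ fixingSubgroup G F) (k₂ : e₂ ∈ fixingSubgroup G F) (o₁ : orderOf e₁ = 2)
    (o₂ : orderOf e₂ = 2) (hne : e₁ ≠ e₂) (c₁ : e₁ * u = u * e₁) (c₂ : e₂ * u = u * e₂)
    (hy : y ∈ stabilizer G F) (hyu : y * u = u * y) {e : ℕ} (hye : y ^ 2 ^ e = 1)
    (hyK : y ∉ fixingSubgroup G F) (hyuK : y * u ∉ fixingSubgroup G F) (hyy : y * y ≠ 1) :
    False := by
  set Y := centralizer ({u} : Set G) with hY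
  set H := stabilizer G F ⊓ Y with hH
  have huu : u * u = 1 := pow_two_eq_one hu2
  have hsq : ∀ x ∈ H, x * x ∈ fixingSubgroup G F := fun x hx =>
    E.sq_mem_of_comm hna hu huu huK hx.1 (mem_centralizer_singleton_iff.mp hx.2)
  have huY : u ∈ Y := mem_centralizer_singleton_iff.mpr rfl
  have hyY : y ∈ Y := mem_centralizer_singleton_iff.mpr hyu
  have huH : u ∈ H := ⟨hu, huY⟩
  have hyH : y ∈ H := ⟨hy, hyY⟩
  obtain ⟨ψ, hψy, hψ⟩ := E.exists_char (R := H) inf_le_left hsq huH hyH huK hyK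
    (by rwa [← hyu])
  set Hs := (stabilizer G F).subgroupOf Y with hHs
  let ι : Hs →* H := MonoidHom.mk' (fun x => ⟨((x : Y) : G), x.2, (x : Y).2⟩) fun a b => rfl
  let φ : Hs →* ℤˣ := ψ.comp ι
  let V : Y →* ℤˣ := MonoidHom.transfer φ
  let D : Subgroup Hs := (V.comp Hs.subtype).eqLocus φ
  have htest : ∀ w : Hs, (∀ g : Y, g ∉ Hs → ∀ r : ℕ, ∀ h : g⁻¹ * (w : Y) ^ r * g ∈ Hs,
      φ ⟨_, h⟩ = 1) → w ∈ D := fun w hw => transfer_apply_eq Hs φ w hw
  have hDk : ∀ w : Hs, ((w : Y) : G) ∈ fixingSubgroup G F → w ∈ D := fun w hw =>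
    htest w fun g hg r h => by
      have h1 : ((w : Y) : G) ^ r = 1 := E.kernel_rule hu hu2 huK
        (mem_centralizer_singleton_iff.mp g.2) (fun hg' => hg hg') (pow_mem hw r) h
      have : (⟨_, h⟩ : Hs) = 1 := Subtype.ext (Subtype.ext (by simp [h1]))
      rw [this, map_one]
  let U : Hs := ⟨⟨u, huY⟩, hu⟩
  let Y₀ : Hs := ⟨⟨y, hyY⟩, hy⟩
  have hDu : U ∈ D := htest U fun g _ r h => by
    have hc : g⁻¹ * (U : Y) ^ r * g = (U : Y) ^ r := by
      have : Commute (U : Y) g :=
        Subtype.ext (mem_centralizer_singleton_iff.mp g.2).symm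
      rw [mul_assoc, (this.pow_left r).eq, inv_mul_cancel_left]
    have h1 : (⟨_, h⟩ : Hs) = U ^ r := Subtype.ext hc
    have h2 : φ U = 1 := (hψ _).mpr (Or.inr (by rw [show ((ι U : H) : G) = u from rfl, huu]; exact one_mem _))
    rw [h1, map_pow, h2, one_pow]
  have hDy : Y₀ ∈ D := htest Y₀ fun g hg r h => by
    rcases E.pow_conj_mem (t := 1) hy hye (by rw [pow_one, pow_two]; exact hsq y hyH)
      (by rw [pow_one, pow_two]; exact hyy) (g := (g : G)) (r := r) h with h1 | h1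
    · have : (⟨_, h⟩ : Hs) = 1 := Subtype.ext (Subtype.ext (by simp [Y₀, h1]))
      rw [this, map_one]
    · exact absurd h1 hg
  have hD : ∀ w : Hs, V w = φ w := by
    intro w
    have hw : ((w : Y) : G) ∈ H := ⟨w.2, (w : Y).2⟩
    rcases E.cases_of_sq (R := H) inf_le_left hsq huH hyH hw huK hyK (by rwa [← hyu]) with h | h | h | h
    · exact hDk w h
    · exact (D.mul_mem_cancel_right hDu).mp (hDk (w * U) h)
    · exact (D.mul_mem_cancel_right hDy).mp (hDk (w * Y₀) h)
    · exact (D.mul_mem_cancel_right (D.mul_mem hDu hDy)).mp (hDk (w * (U * Y₀)) h)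
  set X := V.ker.map Y.subtype with hX
  have hkX : ∀ k ∈ fixingSubgroup G F, k * u = u * k → k ∈ X := fun k hk hku => by
    refine ⟨⟨k, mem_centralizer_singleton_iff.mpr hku⟩, ?_, rfl⟩
    rw [SetLike.mem_coe, MonoidHom.mem_ker]
    exact (hD ⟨_, kernel_le_setStab F hk⟩).trans ((hψ _).mpr (Or.inl hk))
  have hnotZ : ∀ k ∈ fixingSubgroup G F, k ≠ 1 → k ∉ zpowers u := fun k hk hk1 hkz => by
    rcases mem_zpowers_two huu hkz with e | e
    exacts [hk1 e, huK (e ▸ hk)]
  refine frob_subgroup X (stabilizer G F) (zpowers u) ?_ (zpowers_le.mpr hu) ?_ ?_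
    (kernel_le_setStab F k₁) (kernel_le_setStab F k₂) (hkX _ k₁ c₁) (hkX _ k₂ c₂)
    (by rw [pow_two_eq_one o₁]; exact one_mem _) (by rw [pow_two_eq_one o₂]; exact one_mem _)
    (hnotZ _ k₁ (ne_one_of_order_two o₁)) (hnotZ _ k₂ (ne_one_of_order_two o₂))
    (hnotZ _ (mul_mem k₁ k₂) fun e => hne ((eq_inv_of_mul_eq_one_left e).trans
      (inv_eq_of_mul_eq_one_right (pow_two_eq_one o₂))))
  · intro hle
    obtain ⟨h, hhY, hhM⟩ := SetLike.not_le_iff_exists.mp hC
    rcases Int.units_eq_one_or (V ⟨h, hhY⟩) with hv | hv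
    · exact hhM (hle ⟨_, hv, rfl⟩)
    · have hVy : V ⟨y, hyY⟩ = -1 :=
        (hD Y₀).trans ((Int.units_eq_one_or (φ Y₀)).resolve_left hψy)
      have : h * y ∈ stabilizer G F := hle ⟨⟨h, hhY⟩ * ⟨y, hyY⟩, by
        rw [SetLike.mem_coe, MonoidHom.mem_ker, map_mul, hv, hVy]; decide, rfl⟩
      exact hhM ((Subgroup.mul_mem_cancel_right _ hy).mp this)
  · rintro z hz _ ⟨a, -, rfl⟩
    obtain ⟨i, rfl⟩ := mem_zpowers_iff.mp hz
    exact ((show Commute u (a : G) from (mem_centralizer_singleton_iff.mp a.2).symm).zpow_left i).eq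
  · rintro _ ⟨a, -, rfl⟩ haM _ ⟨x, hx, rfl⟩ hxM hconj
    have hau := mem_centralizer_singleton_iff.mp a.2
    have h1 : φ ⟨x, hxM⟩ = 1 := (hD ⟨x, hxM⟩).symm.trans hx
    rcases (hψ _).mp h1 with h2 | h2
    · have e1 : (x : G) = 1 := E.kernel_rule hu hu2 huK hau haM h2 hconj
      exact show (x : G) ∈ zpowers u from e1 ▸ one_mem _
    · have e1 : (x : G) = u := E.kernel_rule_mul hu hu2 huK hau haM hu huu hau h2 hconj
      exact show (x : G) ∈ zpowers u from e1.symm ▸ mem_zpowers u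

/-- An involution outside the kernel commuting with two commuting involutions of the kernel is not
fused out of the stabiliser. -/
theorem good_of_two (E : EmbCtx S F) {u e₁ e₂ : G} (hu : u ∈ stabilizer G F) (hu2 : orderOf u = 2)
    (huK : u ∉ fixingSubgroup G F) (k₁ : e₁ ∈ fixingSubgroup G F) (k₂ : e₂ ∈ fixingSubgroup G F)
    (o₁ : orderOf e₁ = 2) (o₂ : orderOf e₂ = 2) (hne : e₁ ≠ e₂) (he : e₁ * e₂ = e₂ * e₁)
    (c₁ : e₁ * u = u * e₁) (c₂ : e₂ * u = u * e₂) {g : G} (hg : g ∉ stabilizer G F) :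
    g⁻¹ * u * g ∉ stabilizer G F := by
  intro hgu
  have hC := E.cent_not_le hu2 hg hgu
  have huu : u * u = 1 := pow_two_eq_one hu2
  set Y := centralizer ({u} : Set G) with hY
  set H := stabilizer G F ⊓ Y with hH
  by_cases hcyc : ∃ y ∈ H, (∃ e, y ^ 2 ^ e = 1) ∧ y ∉ fixingSubgroup G F ∧
      y * u ∉ fixingSubgroup G F ∧ y * y ≠ 1
  · obtain ⟨y, ⟨hy, hyY⟩, ⟨e, hye⟩, h1, h2, h3⟩ := hcyc
    exact E.no_cycle hna hu hu2 huK hC k₁ k₂ o₁ o₂ hne c₁ c₂ hy
      (mem_centralizer_singleton_iff.mp hyY) hye h1 h2 h3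
  push Not at hcyc
  have hnotZ : ∀ {Z : Subgroup G}, (∀ z ∈ Z, z ∈ fixingSubgroup G F → z = 1) →
      ∀ a b : G, a ∈ fixingSubgroup G F → b ∈ fixingSubgroup G F → orderOf a = 2 → orderOf b = 2 →
      a ≠ b → a ∉ Z ∧ b ∉ Z ∧ a * b ∉ Z := by
    intro Z hZ a b ha hb hoa hob hab
    refine ⟨fun h => ne_one_of_order_two hoa (hZ a h ha), fun h => ne_one_of_order_two hob (hZ b h hb),
      fun h => hab ?_⟩
    exact (eq_inv_of_mul_eq_one_left (hZ _ h (mul_mem ha hb))).trans
      (inv_eq_of_mul_eq_one_right (pow_two_eq_one hob))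
  have hsq1 : ∀ {a : G}, orderOf a = 2 → ∀ Z : Subgroup G, a * a ∈ Z := fun ha Z => by
    rw [pow_two_eq_one ha]; exact one_mem _
  by_cases hA : ∀ h ∈ Y, h ∉ stabilizer G F → ∀ x ∈ Y, x ∈ stabilizer G F →
      h⁻¹ * x * h ∈ stabilizer G F → x = 1 ∨ x = u
  · obtain ⟨n₁, n₂, n₁₂⟩ := hnotZ (Z := zpowers u) (fun z hz hzK => by
      rcases mem_zpowers_two huu hz with rfl | rfl
      exacts [rfl, absurd hzK huK]) e₁ e₂ k₁ k₂ o₁ o₂ hne
    refine frob_subgroup Y (stabilizer G F) (zpowers u) hC (zpowers_le.mpr hu) ?_ ?_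
      (kernel_le_setStab F k₁) (kernel_le_setStab F k₂) (mem_centralizer_singleton_iff.mpr c₁)
      (mem_centralizer_singleton_iff.mpr c₂) (hsq1 o₁ _) (hsq1 o₂ _) n₁ n₂ n₁₂
    · intro z hz y hy
      obtain ⟨i, rfl⟩ := mem_zpowers_iff.mp hz
      exact ((show Commute u y from (mem_centralizer_singleton_iff.mp hy).symm).zpow_left i).eq
    · intro h hh hhM x hx hxM hconj
      rcases hA h hh hhM x hx hxM hconj with rfl | rfl
      exacts [one_mem _, mem_zpowers _]
  push Not at hA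
  obtain ⟨h, hhY, hhM, v, hvY, hvM, hconj, hv1, hvu⟩ := hA
  have hhu := mem_centralizer_singleton_iff.mp hhY
  have hvc := mem_centralizer_singleton_iff.mp hvY
  have hvv : v * v = 1 := E.cent_conj_sq hna hu hu2 huK hhu hhM hvM hvc hconj
  have hvK : v ∉ fixingSubgroup G F := fun h' => hv1 (E.kernel_rule hu hu2 huK hhu hhM h' hconj)
  have hvuK : v * u ∉ fixingSubgroup G F := fun h' =>
    hvu (E.kernel_rule_mul hu hu2 huK hhu hhM hu huu hhu h' hconj)
  have huvK : u * v ∉ fixingSubgroup G F := by rwa [← hvc]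
  set A := fourGroup u v huu hvv hvc.symm with hA'
  set E' := fourGroup e₁ e₂ (pow_two_eq_one o₁) (pow_two_eq_one o₂) he with hE'
  have hAH : A ≤ H := fun x hx => by
    rcases (mem_fourGroup _ _ _).mp hx with rfl | rfl | rfl | rfl
    exacts [one_mem _, ⟨hu, mem_centralizer_singleton_iff.mpr rfl⟩, ⟨hvM, hvY⟩,
      mul_mem ⟨hu, mem_centralizer_singleton_iff.mpr rfl⟩ ⟨hvM, hvY⟩]
  have h₁H : e₁ ∈ H := ⟨kernel_le_setStab F k₁, mem_centralizer_singleton_iff.mpr c₁⟩
  have h₂H : e₂ ∈ H := ⟨kernel_le_setStab F k₂, mem_centralizer_singleton_iff.mpr c₂⟩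
  have hEH : E' ≤ H := fun x hx => by
    rcases (mem_fourGroup _ _ _).mp hx with rfl | rfl | rfl | rfl
    exacts [one_mem _, h₁H, h₂H, mul_mem h₁H h₂H]
  obtain ⟨T, hTH, hT2, hAT, k, hkH, hkT⟩ := exists_common_two
    (isPGroup_of_sq fun a ha => sq_fourGroup huu hvv hvc.symm ha)
    (isPGroup_of_sq fun a ha => sq_fourGroup (pow_two_eq_one o₁) (pow_two_eq_one o₂) he ha) hAH hEH
  -- the conjugates of the involutions centralise `v`
  have hconj' : ∀ e ∈ E', e ∈ fixingSubgroup G F → orderOf e = 2 →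
      k * e * k⁻¹ ∈ fixingSubgroup G F ∧ orderOf (k * e * k⁻¹) = 2 ∧
      k * e * k⁻¹ * u = u * (k * e * k⁻¹) ∧ k * e * k⁻¹ * v = v * (k * e * k⁻¹) := by
    intro e heE heK he2
    set f := k * e * k⁻¹ with hf
    have hfK : f ∈ fixingSubgroup G F := conj_mem_kernel hkH.1 heK
    have hf2 : orderOf f = 2 := ((MulAut.conj k).orderOf_eq e).trans he2
    have hfT : f ∈ T := hkT e heE
    have hfu := mem_centralizer_singleton_iff.mp (hTH hfT).2
    refine ⟨hfK, hf2, hfu, ?_⟩
    have hvfT : v * f ∈ T := mul_mem (hAT (Or.inr (Or.inr (Or.inl rfl)))) hfT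
    obtain ⟨n, hn⟩ := hT2 ⟨_, hvfT⟩
    have hvfK : v * f ∉ fixingSubgroup G F := fun h' =>
      hvK ((Subgroup.mul_mem_cancel_right _ hfK).mp h')
    have hvfuK : v * f * u ∉ fixingSubgroup G F := fun h' => by
      rw [mul_assoc, hfu, ← mul_assoc] at h'
      exact hvuK ((Subgroup.mul_mem_cancel_right _ hfK).mp h')
    have hvf := hcyc _ (hTH hvfT) ⟨n, congrArg Subtype.val hn⟩ hvfK hvfuK
    calc f * v = (f * v) * (v * f * (v * f)) := by rw [hvf, mul_one]
      _ = f * (v * v) * f * (v * f) := by group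
      _ = v * f := by rw [hvv, mul_one, pow_two_eq_one hf2, one_mul]
  obtain ⟨f₁K, f₁o, f₁u, f₁v⟩ := hconj' e₁ (Or.inr (Or.inl rfl)) k₁ o₁
  obtain ⟨f₂K, f₂o, f₂u, f₂v⟩ := hconj' e₂ (Or.inr (Or.inr (Or.inl rfl))) k₂ o₂
  set C₂ := centralizer ({u} : Set G) ⊓ centralizer ({v} : Set G) with hC₂
  by_cases hle : C₂ ≤ stabilizer G F
  · -- the conjugate of `v` gives an involution of another kernel centralising both
    have hv'v' : h⁻¹ * v * h * (h⁻¹ * v * h) = 1 := by
      calc _ = h⁻¹ * (v * v) * h := by group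
        _ = 1 := by rw [hvv]; group
    have hv'u : u * (h⁻¹ * v * h) = h⁻¹ * v * h * u := by
      have hiu : u * h⁻¹ = h⁻¹ * u := ((show Commute h u from hhu).inv_left).eq.symm
      calc u * (h⁻¹ * v * h) = u * h⁻¹ * v * h := by group
        _ = h⁻¹ * (u * v) * h := by rw [hiu]; group
        _ = h⁻¹ * v * (u * h) := by rw [← hvc]; group
        _ = h⁻¹ * v * h * u := by rw [← hhu]; group
    have hA2M : fourGroup u (h⁻¹ * v * h) huu hv'v' hv'u ≤ stabilizer G F := fun x hx => by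
      rcases (mem_fourGroup _ _ _).mp hx with rfl | rfl | rfl | rfl
      exacts [one_mem _, hu, hconj, mul_mem hu hconj]
    obtain ⟨j, hj2, hjK, hjc⟩ := E.exists_commuting_kernel
      (isPGroup_of_sq fun a ha => sq_fourGroup huu hv'v' hv'u ha) hA2M
    have hp : h * j * h⁻¹ ∈ C₂ := by
      refine ⟨mem_centralizer_singleton_iff.mpr ?_, mem_centralizer_singleton_iff.mpr ?_⟩
      · have hiu : h⁻¹ * u = u * h⁻¹ := ((show Commute h u from hhu).inv_left).eq
        calc h * j * h⁻¹ * u = h * (j * u) * h⁻¹ := by rw [mul_assoc, hiu]; group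
          _ = h * u * j * h⁻¹ := by rw [hjc u (Or.inr (Or.inl rfl))]; group
          _ = u * (h * j * h⁻¹) := by rw [hhu]; group
      · calc h * j * h⁻¹ * v = h * (j * (h⁻¹ * v * h)) * h⁻¹ := by group
          _ = h * ((h⁻¹ * v * h) * j) * h⁻¹ := by rw [hjc _ (Or.inr (Or.inr (Or.inl rfl)))]
          _ = v * (h * j * h⁻¹) := by group
    obtain ⟨a, ha⟩ := E.nonempty
    refine hhM (E.mem_of_two (hle hp) (e := 1) ?_ (a := h • a) ?_ ?_ ?_)
    · rw [pow_one, pow_two]
      calc h * j * h⁻¹ * (h * j * h⁻¹) = h * (j * j) * h⁻¹ := by group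
        _ = 1 := by rw [pow_two_eq_one hj2]; group
    · exact fun h' => ne_one_of_order_two hj2 (conj_eq_one_iff.mp h')
    · rw [mul_smul, mul_smul, inv_smul_smul, mem_kernel_iff.mp hjK a ha]
    · rw [show h⁻¹ * (h * j * h⁻¹) * h = j by group]
      exact kernel_le_setStab F hjK
  · obtain ⟨n₁, n₂, n₁₂⟩ := hnotZ (Z := A) (fun z hz hzK => by
      rcases (mem_fourGroup _ _ _).mp hz with rfl | rfl | rfl | rfl
      exacts [rfl, absurd hzK huK, absurd hzK hvK, absurd hzK huvK]) _ _ f₁K f₂K f₁o f₂o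
      (fun h' => hne (mul_left_cancel (mul_right_cancel h')))
    refine frob_subgroup C₂ (stabilizer G F) A hle (hAH.trans inf_le_left) ?_ ?_
      (kernel_le_setStab F f₁K) (kernel_le_setStab F f₂K)
      ⟨mem_centralizer_singleton_iff.mpr f₁u, mem_centralizer_singleton_iff.mpr f₁v⟩
      ⟨mem_centralizer_singleton_iff.mpr f₂u, mem_centralizer_singleton_iff.mpr f₂v⟩
      (hsq1 f₁o _) (hsq1 f₂o _) n₁ n₂ n₁₂
    · intro z hz y hy
      have hyu : Commute u y := (mem_centralizer_singleton_iff.mp hy.1).symm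
      have hyv : Commute v y := (mem_centralizer_singleton_iff.mp hy.2).symm
      rcases (mem_fourGroup _ _ _).mp hz with rfl | rfl | rfl | rfl
      exacts [(Commute.one_left y).eq, hyu.eq, hyv.eq, (hyu.mul_left hyv).eq]
    · intro b hb hbM x hx hxM hbx
      have hbu := mem_centralizer_singleton_iff.mp hb.1
      have hbv := mem_centralizer_singleton_iff.mp hb.2
      have hxu := mem_centralizer_singleton_iff.mp hx.1
      have hsq : ∀ y ∈ H, y * y ∈ fixingSubgroup G F := fun y hy =>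
        E.sq_mem_of_comm hna hu huu huK hy.1 (mem_centralizer_singleton_iff.mp hy.2)
      rcases E.cases_of_sq (R := H) inf_le_left hsq (hAH (Or.inr (Or.inl rfl))) ⟨hvM, hvY⟩
        ⟨hxM, hx.1⟩ huK hvK huvK with h' | h' | h' | h'
      · exact (E.kernel_rule hu hu2 huK hbu hbM h' hbx).symm ▸ one_mem _
      · exact (E.kernel_rule_mul hu hu2 huK hbu hbM hu huu hbu h' hbx).symm ▸ Or.inr (Or.inl rfl)
      · exact (E.kernel_rule_mul hu hu2 huK hbu hbM hvM hvv hbv h' hbx).symm ▸
          Or.inr (Or.inr (Or.inl rfl))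
      · refine (E.kernel_rule_mul hu hu2 huK hbu hbM (mul_mem hu hvM) ?_ ?_ h' hbx).symm ▸
          Or.inr (Or.inr (Or.inr rfl))
        · calc u * v * (u * v) = u * (v * u) * v := by group
            _ = (u * u) * (v * v) := by rw [hvc]; group
            _ = 1 := by rw [huu, hvv, one_mul]
        · rw [← mul_assoc, hbu, mul_assoc, hbv, ← mul_assoc]

end EmbCtx

end CfsgLib.Perm.FixityFour
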