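import Cfsg.Agent.Lib.Perm.FixityFour.Embedded.Small

/-!
When two translates of the four-set meet, the kernel has at most three involutions: at most three
involutions of a point stabiliser exchange two given translates through the point.
-/

set_option autoImplicit false
set_option linter.style.haveILetI false

namespace CfsgLib.Perm.FixityFour

open MulAction Subgroup
open scoped Pointwise

variable {G Ω : Type*} [Group G] [MulAction G Ω]

namespace EmbCtx

variable {S : Sylow 2 G} {F : Set Ω}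

/-- The translates through a point of `F` are translates by the stabiliser of the point. -/
theorem exists_stab_translate (E : EmbCtx S F) {a : Ω} (haF : a ∈ F) {h : G} (ha : a ∈ h • F) :
    ∃ k : G, k • a = a ∧ k • F = h • F := by
  obtain ⟨s, hs, hsa⟩ := E.mod.orbit a haF (h⁻¹ • a) (Set.mem_smul_set_iff_inv_smul_mem.mp ha)
  exact ⟨h * s, by rw [mul_smul, hsa, smul_inv_smul],
    by rw [mul_smul, mem_stabilizer_iff.mp (E.mod.le hs)]⟩

variable [Finite G] [Finite Ω]

omit [Finite G] [Finite Ω] in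
theorem mem_kernel_of_fixedBy {t : G} (h : fixedBy Ω t = F) : t ∈ fixingSubgroup G F :=
  mem_kernel_iff.mpr fun x hx => show x ∈ fixedBy Ω t from h.symm ▸ hx

/-- An involution fixing a point and preserving a translate fixes it pointwise. -/
theorem fixedBy_translate (E : EmbCtx S F) {t k : G} (ht : orderOf t = 2) {b : Ω} (htb : t • b = b)
    (htk : t • (k • F) = k • F) : fixedBy Ω t = k • F := by
  have hM : k⁻¹ * t * k ∈ stabilizer G F := by
    rw [mem_stabilizer_iff, mul_smul, mul_smul, htk, inv_smul_smul]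
  have h2 : orderOf (k⁻¹ * t * k) = 2 := by
    have := (MulAut.conj k⁻¹).orderOf_eq t
    rw [MulAut.conj_apply, inv_inv] at this
    exact this.trans ht
  have hK := E.inv_mem_kernel hM h2 (a := k⁻¹ • b)
    (by rw [mul_smul, mul_smul, smul_inv_smul, htb])
  have h1 := E.mod.fixedBy_eq hK (ne_one_of_order_two h2)
  rw [show k⁻¹ * t * k = k⁻¹ * t * k⁻¹⁻¹ by rw [inv_inv], fixedBy_conj, inv_smul_eq_iff] at h1
  exact h1

variable [IsSimpleGroup G] [FaithfulSMul G Ω] (hna : ¬ IsMulCommutative G)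

include hna

/-- At most three involutions fixing a point exchange `F` with another translate through it. -/
theorem swap_le_three (E : EmbCtx S F) {a : Ω} (haF : a ∈ F) {h : G} (hah : a ∈ h • F)
    (hne : h • F ≠ F) :
    {t : G | orderOf t = 2 ∧ t • a = a ∧ t • F = h • F}.ncard ≤ 3 := by
  haveI : Fact (Nat.Prime 2) := ⟨Nat.prime_two⟩
  haveI : Fact (Nat.Prime 3) := ⟨Nat.prime_three⟩
  set F' := h • F with hF'
  set J := {t : G | orderOf t = 2 ∧ t • a = a ∧ t • F = F'} with hJ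
  by_cases hJe : J = ∅
  · rw [hJe]; simp
  obtain ⟨t₀, ht₀, ht₀a, ht₀F⟩ := Set.nonempty_iff_ne_empty.mpr hJe
  have hback : ∀ t ∈ J, t • F' = F := fun t ht => by
    rw [← ht.2.2, smul_smul, pow_two_eq_one ht.1, one_smul]
  set D : Subgroup G := stabilizer G F ⊓ stabilizer G F' ⊓ stabilizer G a with hD
  set Inv := {d : G | d ∈ D ∧ t₀ * d * t₀ = d⁻¹} with hInv
  have hJI : J.ncard ≤ Inv.ncard := by
    refine Set.ncard_le_ncard_of_injOn (fun t => t₀ * t) (fun t ht => ⟨⟨⟨?_, ?_⟩, ?_⟩, ?_⟩)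
      (fun t _ t' _ e => mul_left_cancel e) (Set.toFinite _)
    · show t₀ * t ∈ stabilizer G _; rw [mem_stabilizer_iff, mul_smul, ht.2.2, hback t₀ ⟨ht₀, ht₀a, ht₀F⟩]
    · show t₀ * t ∈ stabilizer G _; rw [mem_stabilizer_iff, mul_smul, hback t ht, ht₀F]
    · show t₀ * t ∈ stabilizer G _; rw [mem_stabilizer_iff, mul_smul, ht.2.1, ht₀a]
    · rw [mul_inv_rev, inv_eq_of_mul_eq_one_right (pow_two_eq_one ht₀),
        inv_eq_of_mul_eq_one_right (pow_two_eq_one ht.1), ← mul_assoc t₀ t₀, pow_two_eq_one ht₀, one_mul]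
  refine hJI.trans ?_
  -- the part of `D` in the kernel
  set N : Subgroup G := D ⊓ fixingSubgroup G F with hN
  have hX : (F' \ F).ncard ≤ 3 ∧ (F' \ F).ncard ≠ 0 := by
    constructor
    · have h1 : (F' \ F).ncard ≤ (F' \ {a}).ncard :=
        Set.ncard_le_ncard (Set.sdiff_subset_sdiff_right (Set.singleton_subset_iff.mpr haF)) (Set.toFinite _)
      rw [Set.ncard_sdiff_singleton_of_mem hah, Set.ncard_smul_set, E.mod.card] at h1
      exact h1
    · intro h0
      rw [Set.ncard_eq_zero (Set.toFinite _), Set.sdiff_eq_empty] at h0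
      exact hne (Set.eq_of_subset_of_ncard_le h0 (by rw [Set.ncard_smul_set]) (Set.toFinite _))
  have hNd : Nat.card N ∣ (F' \ F).ncard := by
    refine card_dvd_of_free N _ (fun w hw x hx => ⟨?_, compl_invariant hw.1.1.1 hx.2⟩)
      fun w hw x hx hwx => eq_one_of_extra E.mod.four.fix E.mod.card hx.2 hwx
        (mem_kernel_iff.mp hw.2)
    rw [← mem_stabilizer_iff.mp hw.1.1.2]
    exact Set.smul_mem_smul_set hx.1
  have hNodd : ¬ 2 ∣ Nat.card N := by
    intro h2
    obtain ⟨⟨x, hx⟩, hx2⟩ := exists_prime_orderOf_dvd_card' 2 h2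
    rw [Subgroup.orderOf_mk] at hx2
    have h1 := E.fixedBy_translate hx2 hx.1.2 (mem_stabilizer_iff.mp hx.1.1.2)
    exact hne (h1.symm.trans (E.mod.fixedBy_eq hx.2 (ne_one_of_order_two hx2)))
  have hN13 : Nat.card N = 1 ∨ Nat.card N = 3 := by
    have := Nat.le_of_dvd (Nat.pos_of_ne_zero hX.2) hNd
    have : 0 < Nat.card N := Nat.card_pos
    rw [Nat.dvd_iff_mod_eq_zero] at hNodd
    omega
  -- `D` modulo the kernel
  obtain ⟨l, hl, -⟩ := E.exists_lambda hna
  have hDM : D ≤ stabilizer G F := inf_le_left.trans inf_le_left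
  set φ := l.comp (Subgroup.inclusion hDM) with hφ
  have hker : φ.ker = N.subgroupOf D := by
    ext ⟨d, hd⟩
    rw [MonoidHom.mem_ker, hφ, MonoidHom.comp_apply, hl, mem_subgroupOf]
    refine ⟨fun h1 => ⟨hd, ?_⟩, fun h1 => mul_mem h1.2 h1.2⟩
    change d * d ∈ fixingSubgroup G F at h1
    obtain ⟨k, n, hn, he, -⟩ := exists_parts d
    have hy := E.point_mem_kernel (pow_mem (hDM hd) n) he haF
      (fixedBy_pow_subset d n (show a ∈ fixedBy Ω d from mem_stabilizer_iff.mp hd.2))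
    obtain ⟨i, rfl⟩ := hn
    rw [pow_succ, pow_mul, pow_two] at hy
    exact (Subgroup.mul_mem_cancel_left _ (pow_mem h1 i)).mp hy
  have hDcard : Nat.card D = 1 ∨ Nat.card D = 3 ∨
      (Nat.card D = 9 ∧ Nat.card N = 3) := by
    have h1 := φ.ker.card_mul_index
    rw [Subgroup.index_ker, hker,
      Nat.card_congr (subgroupOfEquivOfLe (inf_le_left : N ≤ D)).toEquiv] at h1
    have h3 : Nat.card φ.range ∣ 3 := by
      have := Subgroup.card_subgroup_dvd_card φ.range
      rwa [Nat.card_congr Multiplicative.toAdd, Nat.card_zmod] at this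
    rcases (Nat.dvd_prime Nat.prime_three).mp h3 with e | e <;> rw [e] at h1 <;>
      rcases hN13 with e' | e' <;> rw [e'] at h1 ⊢ <;> omega
  have hle : Inv.ncard ≤ Nat.card D := by
    rw [← SetLike.coe_sort_coe, Nat.card_coe_set_eq]
    exact Set.ncard_le_ncard (fun d hd => hd.1) (Set.toFinite _)
  rcases hDcard with e | e | ⟨e, eN⟩
  · omega
  · omega
  have hcomm : ∀ x ∈ D, ∀ y ∈ D, x * y = y * x := fun x hx y hy => congrArg Subtype.val
    (IsPGroup.commutative_of_card_eq_prime_sq (p := 3) (G := D) (by rw [e]; norm_num) ⟨x, hx⟩ ⟨y, hy⟩)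
  have ht₀t₀ : t₀ * t₀ = 1 := pow_two_eq_one ht₀
  let I : Subgroup G :=
    { carrier := Inv
      one_mem' := ⟨one_mem _, by rw [mul_one, ht₀t₀, inv_one]⟩
      mul_mem' := fun {x y} hx hy => ⟨mul_mem hx.1 hy.1, by
        calc t₀ * (x * y) * t₀ = t₀ * x * (t₀ * t₀) * y * t₀ := by rw [ht₀t₀]; group
          _ = (t₀ * x * t₀) * (t₀ * y * t₀) := by group
          _ = (y * x)⁻¹ := by rw [hx.2, hy.2, mul_inv_rev]
          _ = (x * y)⁻¹ := by rw [hcomm x hx.1 y hy.1]⟩
      inv_mem' := fun {x} hx => ⟨inv_mem hx.1, by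
        have h1 := congrArg (·⁻¹) hx.2
        simp only [mul_inv_rev, inv_inv] at h1
        rw [inv_eq_of_mul_eq_one_right ht₀t₀, ← mul_assoc] at h1
        rw [inv_inv, h1]⟩ }
  have hI : Nat.card I = Inv.ncard := Nat.card_coe_set_eq _
  have hId : Nat.card I ∣ 3 ^ 2 := by
    rw [show (3 : ℕ) ^ 2 = Nat.card D by rw [e]; norm_num]
    exact Subgroup.card_dvd_of_le fun d hd => hd.1
  obtain ⟨i, hi, hci⟩ := (Nat.dvd_prime_pow Nat.prime_three).mp hId
  rw [← hI, hci]
  interval_cases i <;> try norm_num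
  exfalso
  have hDI : (D : Set G) = Inv := (Set.eq_of_subset_of_ncard_le (fun d hd => hd.1)
    (by rw [← hI, hci, ← Nat.card_coe_set_eq, SetLike.coe_sort_coe, e]; norm_num) (Set.toFinite _)).symm
  obtain ⟨x, hx, hx1⟩ := exists_ne_one_of_two_le (X := N) (by omega)
  have hxI : x ∈ Inv := hDI ▸ hx.1
  have hxF' : ∀ y ∈ F', x • y = y := by
    intro y hy
    have h1 : t₀ • y ∈ F := hback t₀ ⟨ht₀, ht₀a, ht₀F⟩ ▸ Set.smul_mem_smul_set hy
    have h2 : x⁻¹ • y = y := by
      rw [← hxI.2, mul_smul, mul_smul, mem_kernel_iff.mp hx.2 _ h1, ← mul_smul, ht₀t₀, one_smul]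
    exact (inv_smul_eq_iff.mp h2).symm
  obtain ⟨y, hy⟩ := Set.nonempty_of_ncard_ne_zero hX.2
  exact hx1 (eq_one_of_extra E.mod.four.fix E.mod.card hy.2 (hxF' y hy.1) (mem_kernel_iff.mp hx.2))

/-- If two translates meet, the kernel has at most three involutions. -/
theorem involutions_le_three (E : EmbCtx S F) {g : G} (hg : g ∉ stabilizer G F) {a : Ω} (haF : a ∈ F)
    (hag : a ∈ g • F) : {t : G | orderOf t = 2 ∧ t ∈ fixingSubgroup G F}.ncard ≤ 3 := by
  classical
  haveI := Fintype.ofFinite G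
  haveI := Fintype.ofFinite Ω
  set Δ : Finset (Set Ω) :=
    (Finset.univ.filter fun k : G => k • a = a).image fun k => k • F with hΔ
  have hΔm : ∀ c, c ∈ Δ ↔ ∃ k : G, k • a = a ∧ k • F = c := fun c => by simp [Δ]
  set I : Finset G := Finset.univ.filter fun t => orderOf t = 2 ∧ t • a = a with hI
  set K₂ : Finset G := Finset.univ.filter fun t => orderOf t = 2 ∧ t ∈ fixingSubgroup G F with hK₂
  have hK₂c : {t : G | orderOf t = 2 ∧ t ∈ fixingSubgroup G F}.ncard = K₂.card := by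
    rw [← Set.ncard_coe_finset]; simp [K₂]
  rw [hK₂c]
  have hIΔ : ∀ t ∈ I, fixedBy Ω t ∈ Δ := by
    intro t ht
    obtain ⟨ht2, hta⟩ := (Finset.mem_filter.mp ht).2
    obtain ⟨h, hh⟩ := E.mod.exists_translate (e := 1)
      (by rw [pow_one, pow_two]; exact pow_two_eq_one ht2) (ne_one_of_order_two ht2) hta
    obtain ⟨k, hka, hk⟩ := E.exists_stab_translate haF (h := h) (hh ▸ hta)
    exact (hΔm _).mpr ⟨k, hka, hk.trans hh.symm⟩
  have hfibre : ∀ c ∈ Δ, (I.filter fun t => fixedBy Ω t = c).card = K₂.card := by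
    intro c hc
    obtain ⟨k, hka, rfl⟩ := (hΔm c).mp hc
    refine (Finset.card_equiv (MulAut.conj k).toEquiv fun t => ?_).symm
    simp only [K₂, I, Finset.mem_filter, Finset.mem_univ, true_and, MulEquiv.toEquiv_eq_coe,
      EquivLike.coe_coe, MulEquiv.orderOf_eq]
    rw [MulAut.conj_apply, fixedBy_conj]
    constructor
    · rintro ⟨ht2, htK⟩
      refine ⟨⟨ht2, ?_⟩, by rw [E.mod.fixedBy_eq htK (ne_one_of_order_two ht2)]⟩
      rw [mul_smul, mul_smul, inv_smul_eq_iff.mpr hka.symm, mem_kernel_iff.mp htK a haF, hka]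
    · rintro ⟨⟨ht2, -⟩, h⟩
      exact ⟨ht2, mem_kernel_of_fixedBy (smul_left_cancel k h)⟩
  have hIc : I.card = Δ.card * K₂.card := by
    rw [Finset.card_eq_sum_card_fiberwise hIΔ, Finset.sum_congr rfl hfibre, Finset.sum_const,
      smul_eq_mul]
  -- pairs of an involution and a translate it moves
  set P : Finset (Set Ω × G) := (Δ ×ˢ I).filter fun p => ¬ fixedBy Ω p.2 = p.1 with hP
  have hQ : ((Δ ×ˢ I).filter fun p => fixedBy Ω p.2 = p.1).card = I.card := by
    refine Finset.card_bij' (fun p _ => p.2) (fun t _ => (fixedBy Ω t, t)) ?_ ?_ ?_ ?_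
    · exact fun p hp => (Finset.mem_product.mp (Finset.mem_filter.mp hp).1).2
    · exact fun t ht => Finset.mem_filter.mpr ⟨Finset.mem_product.mpr ⟨hIΔ t ht, ht⟩, rfl⟩
    · exact fun p hp => Prod.ext (Finset.mem_filter.mp hp).2 rfl
    · exact fun t _ => rfl
  have hPc : P.card + I.card = Δ.card * I.card := by
    rw [← Finset.card_product, ← hQ, hP, Nat.add_comm]
    exact Finset.card_filter_add_card_filter_not _
  have hmap : ∀ p ∈ P, (p.1, p.2 • p.1) ∈ Δ.offDiag := by
    intro p hp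
    obtain ⟨hp', hne⟩ := Finset.mem_filter.mp hp
    obtain ⟨hc, ht⟩ := Finset.mem_product.mp hp'
    obtain ⟨ht2, hta⟩ := (Finset.mem_filter.mp ht).2
    obtain ⟨k, hka, hk⟩ := (hΔm _).mp hc
    refine Finset.mem_offDiag.mpr ⟨hc, (hΔm _).mpr ⟨p.2 * k, by rw [mul_smul, hka, hta],
      by rw [mul_smul, hk]⟩, fun he => hne ?_⟩
    rw [← hk]
    exact E.fixedBy_translate ht2 hta (by rw [hk]; exact he.symm)
  have hfib3 : ∀ q ∈ Δ.offDiag, (P.filter fun p => (p.1, p.2 • p.1) = q).card ≤ 3 := by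
    rintro ⟨c, d⟩ hq
    obtain ⟨hc, hd, hcd⟩ := Finset.mem_offDiag.mp hq
    obtain ⟨k, hka, rfl⟩ := (hΔm c).mp hc
    obtain ⟨k', hk'a, rfl⟩ := (hΔm d).mp hd
    have hfix : (k⁻¹ * k') • a = a := by rw [mul_smul, hk'a, inv_smul_eq_iff, hka]
    have hbound := E.swap_le_three hna haF (h := k⁻¹ * k')
      (hfix ▸ Set.smul_mem_smul_set haF) (fun e => hcd <| by
        rw [mul_smul, inv_smul_eq_iff] at e
        exact e.symm)
    refine le_trans ?_ hbound
    rw [← Set.ncard_coe_finset]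
    refine Set.ncard_le_ncard_of_injOn (fun p => k⁻¹ * p.2 * k) ?_ ?_ (Set.toFinite _)
    · intro p hp
      simp only [Finset.coe_filter, Set.mem_ofPred_eq, Prod.mk.injEq] at hp
      obtain ⟨hp, hp1, hp2⟩ := hp
      obtain ⟨ht2, hta⟩ :=
        (Finset.mem_filter.mp (Finset.mem_product.mp (Finset.mem_filter.mp hp).1).2).2
      refine ⟨?_, ?_, ?_⟩
      · have := (MulAut.conj k⁻¹).orderOf_eq p.2
        rw [MulAut.conj_apply, inv_inv] at this
        exact this.trans ht2
      · rw [mul_smul, mul_smul, hka, hta, inv_smul_eq_iff, hka]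
      · rw [mul_smul, mul_smul, ← hp1, hp2, ← mul_smul]
    · intro p hp p' hp' e
      simp only [Finset.coe_filter, Set.mem_ofPred_eq, Prod.mk.injEq] at hp hp'
      exact Prod.ext (hp.2.1.trans hp'.2.1.symm) (mul_left_cancel (mul_right_cancel e))
  have hPle : P.card ≤ 3 * Δ.offDiag.card :=
    Finset.card_le_mul_card_image_of_maps_to hmap 3 hfib3
  rw [Finset.offDiag_card] at hPle
  have hm : 2 ≤ Δ.card := by
    refine Finset.one_lt_card.mpr ⟨F, (hΔm F).mpr ⟨1, one_smul _ a, one_smul _ F⟩, g • F, ?_,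
      fun e => hg (mem_stabilizer_iff.mpr e.symm)⟩
    exact (hΔm _).mpr (E.exists_stab_translate haF hag)
  rw [hIc] at hPc
  obtain ⟨m, hm'⟩ : ∃ m, Δ.card = m + 2 := ⟨Δ.card - 2, by omega⟩
  rw [hm'] at hPc hPle
  have h1 : P.card = (m + 2) * (m + 1) * K₂.card := by nlinarith
  have h2 : (m + 2) * (m + 2) - (m + 2) = (m + 2) * (m + 1) := by
    rw [show (m + 2) * (m + 2) = (m + 2) * (m + 1) + (m + 2) by ring, Nat.add_sub_cancel]
  rw [h1, h2, mul_comm 3] at hPle
  exact Nat.le_of_mul_le_mul_left hPle (by positivity)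

end EmbCtx

end CfsgLib.Perm.FixityFour
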