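import Mathlib

/-!
A subgroup meeting its other conjugates only in a central subgroup, with a four-group on top of it,
does not exist: the fixed-point-free elements of the quotient would be inverted by three commuting
involutions.
-/

set_option autoImplicit false
set_option linter.style.haveILetI false

namespace CfsgLib.Perm.FixityFour

open MulAction Subgroup

/-- The case of a trivial central subgroup. -/
theorem frob_bot_false {Q : Type*} [Group Q] [Finite Q] (H : Subgroup Q) (hH : H ≠ ⊤)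
    (hTI : ∀ y ∉ H, ∀ x ∈ H, y⁻¹ * x * y ∈ H → x = 1) {e₁ e₂ : Q} (h₁ : e₁ ∈ H) (h₂ : e₂ ∈ H)
    (s₁ : e₁ * e₁ = 1) (s₂ : e₂ * e₂ = 1) (n₁ : e₁ ≠ 1) (n₂ : e₂ ≠ 1)
    (n₁₂ : e₁ * e₂ ≠ 1) : False := by
  classical
  haveI : Fintype Q := Fintype.ofFinite Q
  haveI : Fintype (Q ⧸ H) := Fintype.ofFinite _
  have huniq : ∀ x : Q, x ≠ 1 → ∀ c d : Q ⧸ H, x • c = c → x • d = d → c = d := by
    intro x hx c d
    induction c using QuotientGroup.induction_on with
    | H a =>
      induction d using QuotientGroup.induction_on with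
      | H b =>
        intro hc hd
        rw [MulAction.Quotient.smul_mk, QuotientGroup.eq, smul_eq_mul] at hc hd
        have hc' : a⁻¹ * x * a ∈ H := by
          have := inv_mem hc
          simpa [mul_assoc] using this
        have hd' : b⁻¹ * x * b ∈ H := by
          have := inv_mem hd
          simpa [mul_assoc] using this
        rw [QuotientGroup.eq]
        by_contra hy
        have h1 := hTI _ hy _ hc'
          (by rw [show (a⁻¹ * b)⁻¹ * (a⁻¹ * x * a) * (a⁻¹ * b) = b⁻¹ * x * b by group]; exact hd')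
        refine hx ?_
        calc x = a * (a⁻¹ * x * a) * a⁻¹ := by group
          _ = 1 := by rw [h1]; group
  set o : Q ⧸ H := ((1 : Q) : Q ⧸ H) with ho
  have hfix : ∀ x ∈ H, x • o = o := fun x hx => by
    rw [ho, MulAction.Quotient.smul_mk, QuotientGroup.eq, smul_eq_mul]
    simpa using inv_mem hx
  set m := Fintype.card (Q ⧸ H) with hm
  set N0 : Finset Q := Finset.univ.filter fun x => ∀ c : Q ⧸ H, x • c ≠ c with hN0
  have hm2 : 2 ≤ m := by
    have h1 : H.index ≠ 1 := fun h => hH (Subgroup.index_eq_one.mp h)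
    have h0 : H.index ≠ 0 := index_ne_zero_of_finite
    rw [Subgroup.index, Nat.card_eq_fintype_card] at h1 h0
    omega
  -- the number of elements without a fixed coset
  have hN0c : N0.card = m - 1 := by
    set S : Q ⧸ H → Finset Q := fun c => Finset.univ.filter fun x => x ≠ 1 ∧ x • c = c with hS
    have hSc : ∀ c, (S c).card = Nat.card H - 1 := by
      intro c
      have h1 : S c = (Finset.univ.filter fun x => x • c = c).erase 1 := by
        ext x
        simp [S, and_comm]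
      rw [h1, Finset.card_erase_of_mem (by simp), ← Fintype.card_subtype,
        ← Nat.card_eq_fintype_card]
      have h2 : Nat.card (stabilizer Q c) = Nat.card H := by
        have e1 := (stabilizer Q c).card_mul_index
        rw [index_stabilizer_of_transitive, ← H.card_mul_index, Subgroup.index] at e1
        exact Nat.eq_of_mul_eq_mul_right Nat.card_pos e1
      rw [← h2]
      rfl
    have hdisj : (↑(Finset.univ : Finset (Q ⧸ H)) : Set (Q ⧸ H)).PairwiseDisjoint S := by
      intro c _ d _ hcd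
      rw [Function.onFun, Finset.disjoint_left]
      intro x hx hx'
      simp only [S, Finset.mem_filter] at hx hx'
      exact hcd (huniq x hx.2.1 c d hx.2.2 hx'.2.2)
    have hu : Finset.univ.biUnion S = Finset.univ \ insert 1 N0 := by
      ext x
      simp [S, N0]
    have h1 := Finset.card_biUnion hdisj
    rw [hu, Finset.card_sdiff_of_subset (Finset.subset_univ _),
      Finset.card_insert_of_notMem (by simp [N0]), Finset.card_univ,
      Finset.sum_congr rfl (fun c _ => hSc c), Finset.sum_const, Finset.card_univ, smul_eq_mul] at h1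
    have h2 := H.card_mul_index
    rw [Subgroup.index, Nat.card_eq_fintype_card (α := Q ⧸ H), Nat.card_eq_fintype_card (α := Q)] at h2
    have h3 : 0 < Nat.card H := Nat.card_pos
    have h4 : (insert (1 : Q) N0).card ≤ Fintype.card Q := Finset.card_le_univ _
    rw [Finset.card_insert_of_notMem (by simp [N0])] at h4
    obtain ⟨h, hh⟩ : ∃ h, Nat.card H = h + 1 := ⟨Nat.card H - 1, by omega⟩
    rw [hh, Nat.add_sub_cancel] at h1
    rw [hh, Nat.add_mul, one_mul, Nat.mul_comm h] at h2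
    omega
  -- every involution of `H` inverts all of them
  have hinv : ∀ e ∈ H, e * e = 1 → e ≠ 1 → ∀ n ∈ N0, e * n * e = n⁻¹ := by
    intro e he hee he1
    have heinv : e⁻¹ = e := inv_eq_of_mul_eq_one_right hee
    set f : Q ⧸ H → Q := fun c => e * (c.out * e * c.out⁻¹) with hf
    have hee' : ∀ c : Q ⧸ H, c.out * e * c.out⁻¹ * (c.out * e * c.out⁻¹) = 1 := fun c => by
      calc _ = c.out * (e * e) * c.out⁻¹ := by group
        _ = 1 := by rw [hee]; group
    have hne' : ∀ c : Q ⧸ H, c.out * e * c.out⁻¹ ≠ 1 := fun c h => he1 (conj_eq_one_iff.mp h)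
    have hc' : ∀ c : Q ⧸ H, (c.out * e * c.out⁻¹) • c = c := fun c => by
      conv_lhs => arg 2; rw [← QuotientGroup.out_eq' c]
      conv_rhs => rw [← QuotientGroup.out_eq' c]
      rw [MulAction.Quotient.smul_mk, QuotientGroup.eq, smul_eq_mul]
      simpa [mul_assoc] using inv_mem he
    have hmem : ∀ c ∈ (Finset.univ : Finset (Q ⧸ H)).erase o, f c ∈ N0 := by
      intro c hc
      have hco := (Finset.mem_erase.mp hc).1
      simp only [N0, Finset.mem_filter, Finset.mem_univ, true_and, f]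
      intro d hd
      have hne : e * (c.out * e * c.out⁻¹) ≠ 1 := fun h => hco <| by
        have : c.out * e * c.out⁻¹ = e := by
          rw [← eq_inv_of_mul_eq_one_right h] at *
          exact heinv
        exact huniq _ he1 c o (this ▸ hc' c) (hfix e he)
      have hflip : e * (e * (c.out * e * c.out⁻¹)) * e = (e * (c.out * e * c.out⁻¹))⁻¹ := by
        rw [mul_inv_rev, inv_eq_of_mul_eq_one_right (hee' c), heinv, ← mul_assoc e e, hee, one_mul]
      have hd' : (e * (c.out * e * c.out⁻¹)) • (e • d) = e • d := by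
        rw [smul_left_cancel_iff e⁻¹ |>.symm, heinv, ← mul_smul, ← mul_smul, ← mul_smul, hflip, hee,
          one_smul, inv_smul_eq_iff]
        exact hd.symm
      have hdo : d = o := huniq e he1 d o (huniq _ hne _ _ hd' hd) (hfix e he)
      rw [hdo, mul_smul] at hd
      have h2 : (c.out * e * c.out⁻¹) • o = o := by
        rw [← smul_left_cancel_iff e, hd, hfix e he]
      exact hco (huniq _ (hne' c) c o (hc' c) h2)
    have hinj : Set.InjOn f ((Finset.univ : Finset (Q ⧸ H)).erase o) := by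
      intro c _ d _ hcd
      have h := mul_left_cancel hcd
      exact huniq _ (hne' c) c d (hc' c) (h ▸ hc' d)
    intro n hn
    obtain ⟨c, hc, rfl⟩ := Finset.surj_on_of_inj_on_of_card_le (fun c _ => f c) hmem
      (fun a b ha hb h => hinj ha hb h)
      (by rw [hN0c, Finset.card_erase_of_mem (Finset.mem_univ _), Finset.card_univ]) n hn
    show e * (e * _) * e = _
    rw [mul_inv_rev, inv_eq_of_mul_eq_one_right (hee' c), heinv, ← mul_assoc e e, hee, one_mul]
  obtain ⟨n, hn⟩ := Finset.card_pos.mp (show 0 < N0.card by omega)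
  have i₁ := hinv e₁ h₁ s₁ n₁ n hn
  have i₂ := hinv e₂ h₂ s₂ n₂ n hn
  have hcomm : e₁ * e₂ * n = n * (e₁ * e₂) := by
    have e1 : e₁⁻¹ = e₁ := inv_eq_of_mul_eq_one_right s₁
    have e2 : e₂⁻¹ = e₂ := inv_eq_of_mul_eq_one_right s₂
    calc e₁ * e₂ * n = e₁ * (e₂ * n * e₂) * e₂⁻¹ := by group
      _ = e₁ * (e₁ * n * e₁) * e₂ := by rw [i₂, i₁, e2]
      _ = (e₁ * e₁) * n * (e₁ * e₂) := by group
      _ = n * (e₁ * e₂) := by rw [s₁, one_mul]
  have h3 : (e₁ * e₂) • (n • o) = n • o := by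
    rw [← mul_smul, hcomm, mul_smul, hfix _ (mul_mem h₁ h₂)]
  exact (Finset.mem_filter.mp hn).2 o (huniq _ n₁₂ _ _ h3 (hfix _ (mul_mem h₁ h₂)))

/-- A subgroup meeting other conjugates in a central subgroup `Z` has no four-group over `Z`. -/
theorem frob_false {Y : Type*} [Group Y] [Finite Y] (H Z : Subgroup Y) (hH : H ≠ ⊤) (hZH : Z ≤ H)
    (hZc : ∀ z ∈ Z, ∀ y : Y, z * y = y * z)
    (hTI : ∀ y ∉ H, ∀ x ∈ H, y⁻¹ * x * y ∈ H → x ∈ Z) {e₁ e₂ : Y} (h₁ : e₁ ∈ H) (h₂ : e₂ ∈ H)
    (s₁ : e₁ * e₁ ∈ Z) (s₂ : e₂ * e₂ ∈ Z) (n₁ : e₁ ∉ Z)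
    (n₂ : e₂ ∉ Z) (n₁₂ : e₁ * e₂ ∉ Z) : False := by
  haveI : Z.Normal := ⟨fun z hz y => by rwa [← hZc z hz y, mul_inv_cancel_right]⟩
  set π := QuotientGroup.mk' Z with hπ
  have hmem : ∀ y, π y ∈ H.map π ↔ y ∈ H := fun y => by
    rw [← Subgroup.mem_comap, Subgroup.comap_map_eq, QuotientGroup.ker_mk', sup_eq_left.mpr hZH]
  have hz : ∀ y, π y = 1 ↔ y ∈ Z := fun y => QuotientGroup.eq_one_iff y
  refine frob_bot_false (H.map π) (fun h => hH (eq_top_iff.mpr fun y _ => (hmem y).mp (h ▸ mem_top _)))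
    ?_ (e₁ := π e₁) (e₂ := π e₂) ((hmem _).mpr h₁) ((hmem _).mpr h₂)
    (by rw [← map_mul, hz]; exact s₁) (by rw [← map_mul, hz]; exact s₂)
    (fun h => n₁ ((hz _).mp h)) (fun h => n₂ ((hz _).mp h))
    (fun h => n₁₂ ((hz _).mp (by rw [map_mul]; exact h)))
  · intro a ha b hb hab
    obtain ⟨y, rfl⟩ := QuotientGroup.mk'_surjective Z a
    obtain ⟨x, rfl⟩ := QuotientGroup.mk'_surjective Z b
    rw [← map_inv, ← map_mul, ← map_mul] at hab
    exact (hz _).mpr (hTI y (fun h => ha ((hmem _).mpr h)) x ((hmem _).mp hb) ((hmem _).mp hab))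

/-- The same inside an ambient group: `Y` is the group, `H ⊓ Y` the subgroup. -/
theorem frob_subgroup {G : Type*} [Group G] [Finite G] (Y H Z : Subgroup G) (hY : ¬ Y ≤ H)
    (hZH : Z ≤ H) (hZc : ∀ z ∈ Z, ∀ y ∈ Y, z * y = y * z)
    (hTI : ∀ y ∈ Y, y ∉ H → ∀ x ∈ Y, x ∈ H → y⁻¹ * x * y ∈ H → x ∈ Z) {e₁ e₂ : G} (h₁ : e₁ ∈ H)
    (h₂ : e₂ ∈ H) (y₁ : e₁ ∈ Y) (y₂ : e₂ ∈ Y) (s₁ : e₁ * e₁ ∈ Z) (s₂ : e₂ * e₂ ∈ Z)
    (n₁ : e₁ ∉ Z) (n₂ : e₂ ∉ Z) (n₁₂ : e₁ * e₂ ∉ Z) : False :=
  frob_false (H.subgroupOf Y) (Z.subgroupOf Y) (fun h => hY (subgroupOf_eq_top.mp h))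
    (fun _ hz => hZH hz) (fun _ hz y => Subtype.ext (hZc _ hz _ y.2))
    (fun y hy x hx h => hTI _ y.2 hy _ x.2 hx h) (e₁ := ⟨e₁, y₁⟩) (e₂ := ⟨e₂, y₂⟩) h₁ h₂ s₁ s₂
    n₁ n₂ n₁₂

end CfsgLib.Perm.FixityFour
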