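import Cfsg.Agent.Lib.Perm.FixityFour.Embedded.Count

/-!
Two translates of the four-set meet: the kernel has one involution, or three involutions which the
Sylow subgroup centralises.
-/

set_option autoImplicit false
set_option linter.style.haveILetI false

namespace CfsgLib.Perm.FixityFour

open MulAction Subgroup
open scoped Pointwise

variable {G Ω : Type*} [Group G] [MulAction G Ω]

namespace EmbCtx

variable {S : Sylow 2 G} {F : Set Ω} [Finite G] [Finite Ω] [IsSimpleGroup G] [FaithfulSMul G Ω]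
  (hna : ¬ IsMulCommutative G)

include hna

/-- A map to a group of order two kills the kernel and, given an element of order three on the
pairings, all of `S`. -/
theorem sylow_hom_eq_one (E : EmbCtx S F) {c : G} (hc : c ∈ stabilizer G F)
    (hcc : c * c ∉ fixingSubgroup G F) (ψ : stabilizer G F →* ℤˣ) {s : G}
    (hs : s ∈ (S : Subgroup G)) : ψ ⟨s, E.mod.le hs⟩ = 1 := by
  classical
  haveI := Fintype.ofFinite ↥F
  have hW : ∀ w : stabilizer G F, (w : G) ∈ (S : Subgroup G) → (w : G) ∈ fixingSubgroup G F → ψ w = 1 := by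
    intro w hwS hwK
    by_cases hw1 : (w : G) = 1
    · rw [show w = 1 from Subtype.ext hw1, map_one]
    obtain ⟨e, he⟩ := exists_pow_two_pow S hwS
    exact E.hom_two_eq_one hna ψ w (t := 0) he (by rwa [pow_zero, pow_one]) (by rwa [pow_zero, pow_one])
  have hK : ∀ k : stabilizer G F, (k : G) ∈ fixingSubgroup G F → ψ k = 1 := by
    intro k hk
    refine units_hom_eq_one (ψ.comp (Subgroup.inclusion (kernel_le_setStab (G := G) F))) ?_ ⟨k, hk⟩
    rintro y ⟨e, he⟩
    obtain ⟨m, hm, h⟩ := E.exists_conj_two (kernel_le_setStab F y.2) (congrArg Subtype.val he)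
    set y' : stabilizer G F := ⟨y, kernel_le_setStab F y.2⟩
    show ψ y' = 1
    have h1 := hW (⟨m, hm⟩ * y' * ⟨m, hm⟩⁻¹) h (conj_mem_kernel hm y.2)
    rwa [map_mul, map_mul, map_inv, mul_inv_cancel_comm] at h1
  set A : stabilizer G F := ⟨s, E.mod.le hs⟩
  set C : stabilizer G F := ⟨c, hc⟩
  by_cases hsK : s ∈ fixingSubgroup G F
  · exact hK A hsK
  set f := image (le_refl (stabilizer G F)) with hf
  have key := PermFour.conj_product (α := F) ((Nat.card_coe_set_eq F).trans E.mod.card)
    (a := f A) (s := f C)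
    (by rw [← map_mul, image_eq_one_iff]; exact E.sq_mem hna hs)
    (fun h => hsK ((image_eq_one_iff _).mp h)) (E.image_even hna _) (E.image_even hna _)
    (fun h => hcc (by rw [← map_mul, image_eq_one_iff] at h; exact h))
  have h1 : f ((A * (C * A * C⁻¹))⁻¹ * (C * C * A * (C * C)⁻¹)) = 1 := by
    simp only [map_mul, map_inv]
    rw [inv_mul_eq_one]
    exact key
  have h2 := hK _ ((image_eq_one_iff _).mp h1)
  simp only [map_mul, map_inv] at h2
  rcases Int.units_eq_one_or (ψ A) with hv | hv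
  · exact hv
  · exfalso
    rcases Int.units_eq_one_or (ψ C) with hw | hw <;> rw [hv, hw] at h2 <;> exact absurd h2 (by decide)

/-- Two translates meet. -/
theorem done_of_meet (E : EmbCtx S F) {c : G} (hc : c ∈ stabilizer G F)
    (hcc : c * c ∉ fixingSubgroup G F) {g : G} (hg : g ∉ stabilizer G F) {a : Ω} (haF : a ∈ F)
    (hag : a ∈ g • F) : Done G := by
  classical
  obtain ⟨z, hz, hz2, hzc⟩ := E.exists_central
  by_cases huniq : ∀ x ∈ kerPart S F, orderOf x = 2 → x = z
  · exact E.done_of_unique fun x hx y hy ox oy => (huniq x hx ox).trans (huniq y hy oy).symm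
  push Not at huniq
  obtain ⟨e, he, he2, hez⟩ := huniq
  set T : Set G := {t : G | orderOf t = 2 ∧ t ∈ fixingSubgroup G F} with hT
  have hze : z * e = e * z := (hzc e he.1).symm
  have hzz := pow_two_eq_one hz2
  have hze2 : orderOf (z * e) = 2 := by
    refine order_two ?_ fun h => hez ?_
    · calc z * e * (z * e) = z * (e * z) * e := by group
        _ = (z * z) * (e * e) := by rw [← hze]; group
        _ = 1 := by rw [hzz, pow_two_eq_one he2, one_mul]
    · exact (eq_inv_of_mul_eq_one_right h).trans (inv_eq_of_mul_eq_one_right hzz)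
  have hTeq : T = {z, e, z * e} := by
    refine (Set.eq_of_subset_of_ncard_le ?_ ?_ (Set.toFinite _)).symm
    · rintro x (rfl | rfl | rfl)
      exacts [⟨hz2, hz.2⟩, ⟨he2, he.2⟩, ⟨hze2, mul_mem hz.2 he.2⟩]
    · rw [Set.ncard_eq_three.mpr ⟨z, e, z * e, Ne.symm hez,
        fun h => ne_one_of_order_two he2 (left_eq_mul.mp h),
        fun h => ne_one_of_order_two hz2 (right_eq_mul.mp h), rfl⟩]
      exact E.involutions_le_three hna hg haF hag
  have hconj : ∀ m ∈ stabilizer G F, ∀ t ∈ T, m * t * m⁻¹ ∈ T := fun m hm t ht =>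
    ⟨((MulAut.conj m).orderOf_eq t).trans ht.1, conj_mem_kernel hm ht.2⟩
  let α : stabilizer G F →* Equiv.Perm T := MonoidHom.mk'
    (fun m =>
      { toFun := fun t => ⟨(m : G) * t * (m : G)⁻¹, hconj _ m.2 _ t.2⟩
        invFun := fun t => ⟨(m : G)⁻¹ * t * (m : G)⁻¹⁻¹, hconj _ (Subgroup.inv_mem _ m.2) _ t.2⟩
        left_inv := fun t => Subtype.ext (by simp [mul_assoc])
        right_inv := fun t => Subtype.ext (by simp [mul_assoc]) })
    fun m n => Equiv.ext fun t => Subtype.ext (by simp [mul_assoc])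
  haveI := Fintype.ofFinite ↥T
  have hcard : Nat.card T = 3 := by
    rw [Nat.card_coe_set_eq, hTeq, Set.ncard_eq_three]
    exact ⟨z, e, z * e, Ne.symm hez, fun h => ne_one_of_order_two he2 (left_eq_mul.mp h),
      fun h => ne_one_of_order_two hz2 (right_eq_mul.mp h), rfl⟩
  haveI : Nontrivial T := Finite.one_lt_card_iff_nontrivial.mp (by omega)
  have htriv : ∀ s, ∀ hs : s ∈ (S : Subgroup G), α ⟨s, E.mod.le hs⟩ = 1 := by
    intro s hs
    obtain ⟨k, hk⟩ := exists_pow_two_pow S hs
    have h1 : α ⟨s, E.mod.le hs⟩ ^ 2 ^ k = 1 := by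
      rw [← map_pow, show (⟨s, E.mod.le hs⟩ : stabilizer G F) ^ 2 ^ k = 1 from Subtype.ext hk, map_one]
    have halt : α ⟨s, E.mod.le hs⟩ ∈ alternatingGroup T :=
      E.sylow_hom_eq_one hna hc hcc (Equiv.Perm.sign.comp α) hs
    have h3 : α ⟨s, E.mod.le hs⟩ ^ 3 = 1 := by
      have := congrArg Subtype.val
        (pow_card_eq_one' (G := alternatingGroup T) (x := ⟨_, halt⟩))
      rwa [nat_card_alternatingGroup, hcard] at this
    have := pow_gcd_eq_one.mpr ⟨h1, h3⟩
    rwa [Nat.Coprime.gcd_eq_one (Nat.Coprime.pow_left k (by norm_num)), pow_one] at this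
  have hcen : ∀ s ∈ (S : Subgroup G), s * e = e * s := fun s hs => by
    have h1 := congrArg Subtype.val (Equiv.congr_fun (htriv s hs) ⟨e, he2, he.2⟩)
    exact mul_inv_eq_iff_eq_mul.mp h1
  exact E.done_of_central_pair hna hz he hz2 he2 (Ne.symm hez) hzc hcen

end EmbCtx

end CfsgLib.Perm.FixityFour
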