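import Cfsg.Agent.Lib.Perm.FixityFour.Embedded.Bad
import Cfsg.Agent.Lib.LocalEven.HalfTransitive
import Cfsg.Agent.Lib.TwoGroups.InvariantFour

/-!
Two ways out of the case of an embedded stabiliser: a kernel with few involutions gives sectional
rank at most four, central four-groups in the kernel give strong embedding; the case of an image of
exponent two.
-/

set_option autoImplicit false
set_option linter.style.haveILetI false

namespace CfsgLib.Perm.FixityFour

open MulAction Subgroup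
open scoped Pointwise
open LocalEvenB.SelfCentralEight.Sections (Sec BoundBy)

variable {G Ω : Type*} [Group G] [MulAction G Ω]

/-- A cyclic subgroup of index at most two. -/
theorem boundBy_four_of_cyclic {P : Type*} [Group P] [Finite P] (a : P)
    (h : (zpowers a).index ≤ 2) : BoundBy P 4 := by
  haveI : (zpowers a).Normal := by
    have h0 : (zpowers a).index ≠ 0 := index_ne_zero_of_finite
    rcases (show (zpowers a).index = 1 ∨ (zpowers a).index = 2 by omega) with h1 | h1
    · rw [Subgroup.index_eq_one.mp h1]; infer_instance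
    · exact Subgroup.normal_of_index_eq_two h1
  exact LocalEvenB.SelfCentralEight.Product.boundBy_cyclic_half inferInstance h

/-- Two involutions in a subgroup of four elements with trivial squares. -/
theorem exists_pair {P : Type*} [Group P] [Finite P] {U : Subgroup P} (hU : 4 ≤ Nat.card U)
    (hsq : ∀ u ∈ U, u * u = 1) (z : P) : ∃ e ∈ U, orderOf e = 2 ∧ e ≠ z := by
  classical
  by_contra! hall
  have hsub : (U : Set P) ⊆ {1, z} := fun x hx => by
    by_cases hx1 : x = 1
    · exact Or.inl hx1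
    · exact Or.inr (hall x hx (order_two (hsq x hx) hx1))
  have h1 : Nat.card U = (U : Set P).ncard := Nat.card_coe_set_eq _
  have := (Set.ncard_le_ncard hsub (Set.toFinite _)).trans (Set.ncard_insert_le _ _)
  simp only [Set.ncard_singleton] at this
  omega

namespace EmbCtx

variable {S : Sylow 2 G} {F : Set Ω} [Finite G] [Finite Ω]

omit [Finite Ω] in
/-- The sectional rank is bounded through the kernel, of index four in `S`. -/
theorem done_of_boundBy (E : EmbCtx S F) (h : BoundBy (kerPart S F) 4) : Done G := by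
  haveI := E.kerPart_normal
  set W' := (kerPart S F).subgroupOf (S : Subgroup G) with hW'
  refine Or.inr ⟨S, LocalEvenB.SelfCentralEight.Sections.sectional_of_boundBy (k := 4) ?_⟩
  refine Rank.boundBy_mono (Rank.boundBy_of_normal W' (a := 4) (b := 4) ?_ ?_) (by norm_num)
  · exact Rank.boundBy_of_injective (subgroupOfEquivOfLe (inf_le_left : kerPart S F ≤ _)).toMonoidHom
      (MulEquiv.injective _) h
  · exact Rank.boundBy_of_card_le E.mod.index.le

omit [Finite Ω] in
/-- A kernel with one involution. -/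
theorem done_of_unique (E : EmbCtx S F)
    (h : ∀ x ∈ kerPart S F, ∀ y ∈ kerPart S F, orderOf x = 2 → orderOf y = 2 → x = y) : Done G := by
  haveI : Fact (Nat.Prime 2) := ⟨Nat.prime_two⟩
  refine E.done_of_boundBy ?_
  have hP : IsPGroup 2 (kerPart S F) := S.isPGroup'.to_le inf_le_left
  have hno : ¬ ∃ U : Subgroup (kerPart S F), U.Normal ∧ Nat.card U = 4 ∧ ∀ x ∈ U, x * x = 1 := by
    rintro ⟨U, -, h4, hsq⟩
    obtain ⟨e₁, -, o₁, -⟩ := exists_pair h4.ge hsq 1
    obtain ⟨e₂, -, o₂, hne⟩ := exists_pair h4.ge hsq e₁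
    exact hne (Subtype.ext (h _ e₂.2 _ e₁.2 (by rwa [Subgroup.orderOf_coe])
      (by rwa [Subgroup.orderOf_coe])))
  by_cases hc : ∀ x y : kerPart S F, x * y = y * x
  · have hcyc : IsCyclic (⊤ : Subgroup (kerPart S F)) := by
      by_contra hnc
      obtain ⟨U, -, hUn, hUe, hU4⟩ := CfsgLib.Fusion.NormalRankTwo.exists_of_abelian hP
        (A := ⊤) ⟨⟨fun a b => Subtype.ext (hc a b)⟩⟩ hnc
      exact hno ⟨U, hUn, by simpa using hU4, fun x hx => by rw [← pow_two]; exact hUe.2 x hx⟩
    obtain ⟨a, ha⟩ := (Subgroup.isCyclic_iff_exists_zpowers_eq_top _).1 hcyc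
    exact boundBy_four_of_cyclic a (by rw [ha, index_top]; norm_num)
  · push Not at hc
    obtain ⟨a, k, -, hak, hcard⟩ := LocalEven.HalfTransitive.cyclic_index_two hP hno hc
    refine boundBy_four_of_cyclic a (le_of_eq ?_)
    have h1 := (zpowers a).card_mul_index
    rw [Nat.card_zpowers, hak, hcard, pow_succ] at h1
    exact Nat.eq_of_mul_eq_mul_left (Nat.two_pow_pos k) h1

omit [Finite Ω] in
/-- A kernel without four-groups normal in `S`. -/
theorem done_of_no_normal_four (E : EmbCtx S F)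
    (hno : ∀ U ≤ kerPart S F, Nat.card U = 4 → (∀ u ∈ U, u * u = 1) →
      (∀ s ∈ (S : Subgroup G), ∀ u ∈ U, s * u * s⁻¹ ∈ U) → False) : Done G := by
  classical
  obtain ⟨z, hz, hz2, hzc⟩ := E.exists_central
  by_cases huniq : ∀ x ∈ kerPart S F, orderOf x = 2 → x = z
  · exact E.done_of_unique fun x hx y hy ox oy => (huniq x hx ox).trans (huniq y hy oy).symm
  push Not at huniq
  obtain ⟨x, hx, ox, hxz⟩ := huniq
  haveI := E.kerPart_normal
  set W' := (kerPart S F).subgroupOf (S : Subgroup G) with hW'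
  obtain ⟨a, f, k, j, hsh, -⟩ := TwoGroups.InvariantFour.exists_shape S.isPGroup' W'
    (fun V hV hVn h4 hsq => hno (V.map (S : Subgroup G).subtype)
      (by rintro _ ⟨v, hv, rfl⟩; exact hV hv)
      (by rw [card_map_of_injective (S : Subgroup G).subtype_injective, h4])
      (by rintro _ ⟨v, hv, rfl⟩; rw [← pow_two, ← map_pow, hsq v hv, map_one])
      (by rintro s hs _ ⟨v, hv, rfl⟩; exact ⟨_, hVn.conj_mem v hv ⟨s, hs⟩, rfl⟩))
    (e₁ := ⟨x, hx.1⟩) (e₂ := ⟨z, hz.1⟩) hx hz (by rwa [Subgroup.orderOf_mk])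
    (by rwa [Subgroup.orderOf_mk]) (fun e => hxz (congrArg Subtype.val e))
    (Subtype.ext (hzc x hx.1))
  refine E.done_of_boundBy (boundBy_four_of_cyclic ⟨(a : G), hsh.mem_a⟩ ?_)
  set N := zpowers (⟨(a : G), hsh.mem_a⟩ : kerPart S F)
  let q : kerPart S F ⧸ N → Bool := fun c => decide (c = ((1 : kerPart S F) : kerPart S F ⧸ N))
  have hmem : ∀ b : kerPart S F, (⟨(b : G), b.2.1⟩ : (S : Subgroup G)) ∈ zpowers a → b ∈ N := by
    intro b hb
    obtain ⟨i, hi⟩ := mem_zpowers_iff.mp hb
    refine mem_zpowers_iff.mpr ⟨i, Subtype.ext ?_⟩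
    rw [coe_zpow]
    exact (coe_zpow _ a i).symm.trans (congrArg Subtype.val hi)
  have hq : Function.Injective q := by
    intro c d hcd
    induction c using QuotientGroup.induction_on with
    | H b =>
      induction d using QuotientGroup.induction_on with
      | H b' =>
        simp only [q, decide_eq_decide, QuotientGroup.eq, mul_one, inv_mem_iff] at hcd
        rw [QuotientGroup.eq]
        by_cases hb : b ∈ N
        · exact mul_mem (inv_mem hb) (hcd.mp hb)
        · have hb' : b' ∉ N := fun h => hb (hcd.mpr h)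
          have h1 := ((hsh.cover ⟨b, b.2.1⟩ b.2).resolve_left fun h => hb (hmem b h))
          have h2 := ((hsh.cover ⟨b', b'.2.1⟩ b'.2).resolve_left fun h => hb' (hmem b' h))
          refine hmem _ ?_
          have h3 := mul_mem (inv_mem h1) h2
          rwa [mul_inv_rev, mul_assoc, inv_mul_cancel_left] at h3
  exact (Nat.card_le_card_of_injective q hq).trans (by simp)

variable [IsSimpleGroup G] [FaithfulSMul G Ω] (hna : ¬ IsMulCommutative G)

include hna

/-- Every involution of `S` outside the kernel centralising a four-group of it: strong embedding. -/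
theorem done_of_pairs (E : EmbCtx S F)
    (h : ∀ u ∈ (S : Subgroup G), orderOf u = 2 → u ∉ fixingSubgroup G F →
      ∃ e₁ ∈ kerPart S F, ∃ e₂ ∈ kerPart S F, orderOf e₁ = 2 ∧ orderOf e₂ = 2 ∧ e₁ ≠ e₂ ∧
        e₁ * e₂ = e₂ * e₁ ∧ e₁ * u = u * e₁ ∧ e₂ * u = u * e₂) : Done G :=
  E.done_of_good fun u hu hu2 huK g hg => by
    obtain ⟨e₁, he₁, e₂, he₂, o₁, o₂, hne, he, c₁, c₂⟩ := h u hu hu2 huK
    exact E.good_of_two hna (E.mod.le hu) hu2 huK he₁.2 he₂.2 o₁ o₂ hne he c₁ c₂ hg

/-- Two involutions of the kernel central in `S`. -/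
theorem done_of_central_pair (E : EmbCtx S F) {e₁ e₂ : G} (h₁ : e₁ ∈ kerPart S F)
    (h₂ : e₂ ∈ kerPart S F) (o₁ : orderOf e₁ = 2) (o₂ : orderOf e₂ = 2) (hne : e₁ ≠ e₂)
    (c₁ : ∀ s ∈ (S : Subgroup G), s * e₁ = e₁ * s) (c₂ : ∀ s ∈ (S : Subgroup G), s * e₂ = e₂ * s) :
    Done G :=
  E.done_of_pairs hna fun u hu _ _ => ⟨e₁, h₁, e₂, h₂, o₁, o₂, hne, (c₂ e₁ h₁.1), (c₁ u hu).symm,
    (c₂ u hu).symm⟩

/-- The image of the stabiliser has exponent two. -/
theorem done_of_sq_all (E : EmbCtx S F)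
    (hsq : ∀ x ∈ stabilizer G F, x * x ∈ fixingSubgroup G F) : Done G := by
  have hinvol : ∀ y ∈ (S : Subgroup G), y ∉ fixingSubgroup G F → y * y = 1 := by
    intro y hy hyK
    by_contra hyy
    obtain ⟨a, ha, haK, hayK⟩ := E.exists_second y hy
    obtain ⟨ψ, hψy, -⟩ :=
      E.exists_char (R := stabilizer G F) le_rfl hsq (E.mod.le ha) (E.mod.le hy) haK hyK hayK
    obtain ⟨e, he⟩ := exists_pow_two_pow S hy
    exact hψy (E.hom_two_eq_one hna ψ ⟨y, E.mod.le hy⟩ (t := 1) he
      (by rw [pow_one, pow_two]; exact hsq y (E.mod.le hy)) (by rw [pow_one, pow_two]; exact hyy))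
  have hinverts : ∀ s ∈ (S : Subgroup G), s ∉ fixingSubgroup G F → ∀ w ∈ kerPart S F,
      s * w * s = w⁻¹ := by
    intro s hs hsK w hw
    refine eq_inv_of_mul_eq_one_left ?_
    have := hinvol (s * w) (mul_mem hs hw.1)
      fun h => hsK ((Subgroup.mul_mem_cancel_right _ hw.2).mp h)
    simpa [mul_assoc] using this
  obtain ⟨s, hs, hsK, -⟩ := E.exists_second 1 (one_mem _)
  obtain ⟨t, ht, htK, htsK⟩ := E.exists_second s hs
  have hW2 : ∀ w ∈ kerPart S F, w * w = 1 := by
    intro w hw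
    have h1 := hinverts _ (mul_mem ht hs) htsK w hw
    have hst : (t * s)⁻¹ = t * s := inv_eq_of_mul_eq_one_right (hinvol _ (mul_mem ht hs) htsK)
    have hsi : s⁻¹ = s := inv_eq_of_mul_eq_one_right (hinvol _ hs hsK)
    have hti : t⁻¹ = t := inv_eq_of_mul_eq_one_right (hinvol _ ht htK)
    have h2 : t * s * w * (t * s) = w := by
      calc t * s * w * (t * s) = t * s * w * (t * s)⁻¹ := by rw [hst]
        _ = t * (s * w * s⁻¹) * t⁻¹ := by group
        _ = t * w⁻¹ * t := by rw [hsi, hti, hinverts _ hs hsK w hw]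
        _ = w := by rw [hinverts _ ht htK _ (inv_mem hw), inv_inv]
    calc w * w = w⁻¹ * w := by nth_rewrite 1 [← h2]; rw [h1]
      _ = 1 := inv_mul_cancel w
  have h8 : 4 ≤ Nat.card (kerPart S F) := by have := E.mod.eight; omega
  obtain ⟨e₁, he₁, o₁, -⟩ := exists_pair h8 hW2 1
  obtain ⟨e₂, he₂, o₂, hne⟩ := exists_pair h8 hW2 e₁
  have hcomm : ∀ w ∈ kerPart S F, ∀ u ∈ (S : Subgroup G), u ∉ fixingSubgroup G F → w * u = u * w := by
    intro w hw u hu huK
    have h1 := hinverts u hu huK w hw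
    calc w * u = (u * w * u)⁻¹ * u := by rw [h1, inv_inv]
      _ = u⁻¹ * w⁻¹ := by group
      _ = u * w := by rw [inv_eq_of_mul_eq_one_right (hinvol u hu huK), inv_eq_of_mul_eq_one_right (hW2 w hw)]
  exact E.done_of_pairs hna fun u hu _ huK => ⟨e₁, he₁, e₂, he₂, o₁, o₂, hne.symm,
    Rank.comm_of_sq hW2 he₁ he₂, hcomm _ he₁ u hu huK, hcomm _ he₂ u hu huK⟩

end EmbCtx

end CfsgLib.Perm.FixityFour
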